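import Mathlib.CategoryTheory.Abelian.Injective.Ext
import Mathlib.CategoryTheory.Abelian.RightDerived
import Mathlib.CategoryTheory.Preadditive.Yoneda.Limits
import Mathlib.Algebra.Homology.ShortComplex.Ab

/-! # `Ext` groups are the right derived functors of `Hom` -/

universe v u

open CategoryTheory CategoryTheory.Limits CategoryTheory.Abelian Opposite

namespace Groth.Agent.GrothSS

variable {C : Type u} [Category.{v} C] [Abelian C] [HasExt.{v} C] {M : C} (R : InjectiveResolution M)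
  (Y : C)

lemma extMk_zero_iff_of_prev (i n : ℕ) (hi : (ComplexShape.up ℕ).prev n = i)
    (f : Y ⟶ R.cocomplex.X n) (hf : f ≫ R.cocomplex.d n (n + 1) = 0) :
    R.extMk f (n + 1) rfl hf = 0 ↔ ∃ g : Y ⟶ R.cocomplex.X i, g ≫ R.cocomplex.d i n = f := by
  obtain _ | p := n
  · subst hi
    rw [← R.extEquivCohomologyClass.apply_eq_iff_eq, InjectiveResolution.extEquivCohomologyClass_extMk,
      InjectiveResolution.extEquivCohomologyClass_zero, CochainComplex.HomComplex.CohomologyClass.mk_eq_zero_iff,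
      CochainComplex.HomComplex.Cocycle.fromSingleMk_mem_coboundaries_iff _ _ _ _ _ (-1) (by simp)]
    have hd : R.cocomplex.d ((ComplexShape.up ℕ).prev 0) 0 = 0 := R.cocomplex.shape _ _ (by simp)
    constructor
    · rintro ⟨g, hg⟩
      refine ⟨0, ?_⟩
      rw [(R.cochainComplex.isZero_of_isStrictlyGE 0 (-1)).eq_of_tgt g 0, zero_comp] at hg
      rw [zero_comp, ← cancel_mono (R.cochainComplexXIso 0 0 rfl).inv, zero_comp]
      exact hg
    · rintro ⟨g, rfl⟩
      exact ⟨0, by simp [hd]⟩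
  · obtain rfl : p = i := by rw [← hi, CochainComplex.prev_nat_succ]
    exact R.extMk_eq_zero_iff _ _ rfl _ p rfl

lemma nonempty_homology_hom_iso (n : ℕ) :
    Nonempty ((((preadditiveCoyoneda.obj (op Y)).mapHomologicalComplex (ComplexShape.up ℕ)).obj
      R.cocomplex).homology n ≅ AddCommGrpCat.of (Ext.{v} Y M n)) := by
  let L := ((preadditiveCoyoneda.obj (op Y)).mapHomologicalComplex (ComplexShape.up ℕ)).obj R.cocomplex
  let T := L.sc' ((ComplexShape.up ℕ).prev n) n (n + 1)
  have hcyc : ∀ x : AddMonoidHom.ker T.g.hom, (x.1 : Y ⟶ R.cocomplex.X n) ≫ R.cocomplex.d n (n + 1) = 0 :=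
    fun x => x.2
  let φ : AddMonoidHom.ker T.g.hom →+ Ext.{v} Y M n :=
    AddMonoidHom.mk' (fun x => R.extMk (x.1 : Y ⟶ R.cocomplex.X n) (n + 1) rfl (hcyc x))
      fun x y => (R.add_extMk _ _ (n + 1) rfl (hcyc x) (hcyc y)).symm
  have hφ : Function.Surjective φ := fun α => by
    obtain ⟨f, hf, rfl⟩ := R.extMk_surjective α (n + 1) rfl
    exact ⟨⟨f, hf⟩, rfl⟩
  have hker : φ.ker = AddMonoidHom.range T.abToCycles := by
    ext x
    rw [AddMonoidHom.mem_ker, AddMonoidHom.mem_range]
    refine (extMk_zero_iff_of_prev R Y _ n rfl _ (hcyc x)).trans ⟨?_, ?_⟩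
    · rintro ⟨g, hg⟩
      exact ⟨g, Subtype.ext hg⟩
    · rintro ⟨g, hg⟩
      exact ⟨g, congrArg Subtype.val hg⟩
  exact ⟨L.homologyIsoSc' _ n (n + 1) rfl (CochainComplex.next ℕ n) ≪≫ T.abHomologyIso ≪≫
    ((QuotientAddGroup.quotientAddEquivOfEq hker.symm).trans
      (QuotientAddGroup.quotientKerEquivOfSurjective φ hφ)).toAddCommGrpIso⟩

/-- `Ext` groups are the right derived functors of `Hom(Y, -)`. -/
theorem nonempty_rightDerived_hom_iso [HasInjectiveResolutions C] (X : C) (n : ℕ) :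
    Nonempty (((preadditiveCoyoneda.obj (op Y)).rightDerived n).obj X ≅ AddCommGrpCat.of (Ext.{v} Y X n)) :=
  ⟨(injectiveResolution X).isoRightDerivedObj _ n ≪≫
    (nonempty_homology_hom_iso (injectiveResolution X) Y n).some⟩

instance preservesFiniteLimits_hom : PreservesFiniteLimits (preadditiveCoyoneda.obj (op Y)) := by
  infer_instance

end Groth.Agent.GrothSS
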