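import Groth.Agent.RDerLES.LES
import Mathlib.Algebra.Homology.DerivedCategory.DerivabilityStructureInjectives
import Mathlib.CategoryTheory.Abelian.RightDerived

/-! # Complexes of acyclic objects compute derived functors -/

universe v u v' u'

open CategoryTheory CategoryTheory.Limits

namespace Groth.Agent.GrothSS

variable {C : Type u} [Category.{v} C] [Abelian C]

lemma enoughInjectives_of_resolutions [HasInjectiveResolutions C] : EnoughInjectives C where
  presentation X :=
    ⟨{ J := (injectiveResolution X).cocomplex.X 0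
       f := (injectiveResolution X).ι.f 0
       mono := inferInstanceAs (Mono ((injectiveResolution X).ι.f 0)) }⟩

lemma quasiIso_iff_acyclic_mappingCone {K L : CochainComplex C ℤ} (φ : K ⟶ L) :
    QuasiIso φ ↔ (CochainComplex.mappingCone φ).Acyclic := by
  rw [← HomotopyCategory.quotient_obj_mem_subcategoryAcyclic_iff_acyclic,
    ← HomologicalComplex.mem_quasiIso_iff, ← HomotopyCategory.quotient_map_mem_quasiIso_iff,
    HomotopyCategory.quasiIso_eq_trW_subcategoryAcyclic]
  exact (HomotopyCategory.subcategoryAcyclic C).trW_iff_of_distinguished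
    (CochainComplex.mappingCone.triangleh φ) (HomotopyCategory.mappingCone_triangleh_distinguished φ)

variable [HasInjectiveResolutions C] {D : Type u'} [Category.{v'} D] [Abelian D]
  (S : C ⥤ D) [S.Additive] [PreservesFiniteLimits S]

/-- acyclic for `S` -/
def IsAcyclicObj (X : C) : Prop := ∀ q : ℕ, IsZero ((S.rightDerived (q + 1)).obj X)

variable {S}

lemma isAcyclicObj_of_injective (X : C) [Injective X] : IsAcyclicObj S X := fun q =>
  Functor.isZero_rightDerived_obj_injective_succ S q X

lemma isAcyclicObj_of_isZero {X : C} (h : IsZero X) : IsAcyclicObj S X := fun q =>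
  Functor.map_isZero _ h

lemma isAcyclicObj_cone {K L : CochainComplex C ℤ} (φ : K ⟶ L) (hK : ∀ n, IsAcyclicObj S (K.X n))
    (hL : ∀ n, IsAcyclicObj S (L.X n)) (n : ℤ) :
    IsAcyclicObj S ((CochainComplex.mappingCone φ).X n) := fun q => by
  rw [IsZero.iff_id_eq_zero, ← CategoryTheory.Functor.map_id,
    ← CochainComplex.mappingCone.id_X φ n (n + 1) rfl, Functor.map_add, Functor.map_comp, Functor.map_comp,
    (hK (n + 1) q).eq_of_src ((S.rightDerived (q + 1)).map ((CochainComplex.mappingCone.inl φ).v (n + 1) n (by lia))) 0,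
    (hL n q).eq_of_src ((S.rightDerived (q + 1)).map ((CochainComplex.mappingCone.inr φ).f n)) 0]
  simp

lemma map_shortExact_of_acyclic {T : ShortComplex C} (hT : T.ShortExact) (h₁ : IsAcyclicObj S T.X₁) :
    (T.map S).ShortExact ∧ (IsAcyclicObj S T.X₂ → IsAcyclicObj S T.X₃) := by
  haveI : EnoughInjectives C := enoughInjectives_of_resolutions
  let L := RDerLES.derivedLES S
  refine ⟨?_, fun h₂ q => (L.exact₃ T hT (q + 1) (q + 2) rfl).isZero_of_both_zeros
    ((h₂ q).eq_of_src _ _) ((h₁ (q + 1)).eq_of_tgt _ _)⟩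
  haveI := hT.mono_f
  haveI : Mono (T.map S).f := inferInstanceAs (Mono (S.map T.f))
  haveI : Epi ((S.rightDerived 0).map T.g) :=
    (L.exact₃ T hT 0 1 rfl).epi_f ((h₁ 0).eq_of_tgt _ _)
  haveI : Epi (T.map S).g := by
    have := NatIso.naturality_1 S.rightDerivedZeroIsoSelf T.g
    exact (this ▸ epi_comp _ _ : Epi (S.map T.g))
  exact { exact := hT.exact.map_of_mono_of_preservesKernel S hT.mono_f inferInstance }

/-- `S` keeps bounded below acyclic complexes of acyclic objects acyclic. -/
theorem acyclic_map {M : CochainComplex C ℤ} (a : ℤ) [M.IsStrictlyGE a] (hM : M.Acyclic)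
    (h : ∀ n, IsAcyclicObj S (M.X n)) :
    ((S.mapHomologicalComplex (ComplexShape.up ℤ)).obj M).Acyclic := by
  let sq : ℤ → ShortComplex C := fun n => ShortComplex.mk (M.iCycles n) (M.toCycles n (n + 1))
    (by rw [← cancel_mono (M.iCycles (n + 1)), Category.assoc, M.toCycles_i, M.iCycles_d, zero_comp])
  have hs : ∀ n, (sq n).ShortExact := fun n => by
    haveI : Epi (M.toCycles n (n + 1)) :=
      Preadditive.epi_of_isZero_cokernel' _ (M.homologyIsCokernel n (n + 1) (by simp))
        (hM (n + 1)).isZero_homology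
    refine { exact := ?_, mono_f := inferInstanceAs (Mono (M.iCycles n)), epi_g := this }
    exact ShortComplex.exact_of_f_is_kernel _ (isKernelOfComp (M.iCycles (n + 1))
      (M.d n (n + 1)) (M.cyclesIsKernel n (n + 1) (by simp)) (sq n).zero (M.toCycles_i _ _))
  have hz : ∀ (k : ℕ) (n : ℤ), n = a - 1 + k → IsAcyclicObj S (M.cycles n) := by
    intro k
    induction k with
    | zero =>
      intro n hn
      exact isAcyclicObj_of_isZero (IsZero.of_mono (M.iCycles n) (M.isZero_of_isStrictlyGE a n (by lia)))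
    | succ k ih =>
      rintro n hn
      obtain rfl : n = (a - 1 + k) + 1 := by lia
      exact (map_shortExact_of_acyclic (hs _) (ih _ rfl)).2 (h _)
  have hz' : ∀ n, IsAcyclicObj S (M.cycles n) := fun n => by
    by_cases hn : a - 1 ≤ n
    · exact hz (n - (a - 1)).toNat n (by lia)
    · exact isAcyclicObj_of_isZero (IsZero.of_mono (M.iCycles n) (M.isZero_of_isStrictlyGE a n (by lia)))
  intro n
  obtain ⟨m, rfl⟩ : ∃ m, n = m + 1 := ⟨n - 1, by lia⟩
  rw [HomologicalComplex.exactAt_iff' _ m (m + 1) (m + 1 + 1) (by simp) (by simp)]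
  have h1 := (map_shortExact_of_acyclic (hs m) (hz' _)).1
  have h2 := (map_shortExact_of_acyclic (hs (m + 1)) (hz' _)).1
  haveI := h1.epi_g
  have hm := (map_shortExact_of_acyclic (hs (m + 1 + 1)) (hz' _)).1.mono_f
  have hw : ((S.mapHomologicalComplex (ComplexShape.up ℤ)).obj M).d m (m + 1) ≫ S.map (M.toCycles (m + 1) (m + 1 + 1)) = 0 :=
    (S.map_comp _ _).symm.trans ((congrArg S.map (by
      rw [← cancel_mono (M.iCycles (m + 1 + 1)), Category.assoc, M.toCycles_i, M.d_comp_d, zero_comp])).trans (S.map_zero _ _))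
  let φ₁ : ShortComplex.mk _ _ hw ⟶
      ShortComplex.mk ((sq (m + 1)).map S).f ((sq (m + 1)).map S).g ((sq (m + 1)).map S).zero :=
    { τ₁ := ((sq m).map S).g, τ₂ := 𝟙 _, τ₃ := 𝟙 _
      comm₁₂ := ((S.map_comp _ _).symm.trans (congrArg S.map (M.toCycles_i _ _))).trans (Category.comp_id _).symm
      comm₂₃ := (Category.id_comp _).trans (Category.comp_id _).symm }
  haveI : Epi φ₁.τ₁ := h1.epi_g
  haveI : IsIso φ₁.τ₂ := IsIso.id _
  haveI : Mono φ₁.τ₃ := inferInstanceAs (Mono (𝟙 _))
  have hE : (ShortComplex.mk _ _ hw).Exact :=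
    (ShortComplex.exact_iff_of_epi_of_isIso_of_mono φ₁).2 h2.exact
  let φ₂ : ShortComplex.mk _ _ hw ⟶
      ((S.mapHomologicalComplex (ComplexShape.up ℤ)).obj M).sc' m (m + 1) (m + 1 + 1) :=
    { τ₁ := 𝟙 _, τ₂ := 𝟙 _, τ₃ := ((sq (m + 1 + 1)).map S).f
      comm₁₂ := (Category.id_comp _).trans (Category.comp_id _).symm
      comm₂₃ := (Category.id_comp _).trans ((S.map_comp _ _).symm.trans (congrArg S.map (M.toCycles_i _ _))).symm }
  haveI : Epi φ₂.τ₁ := inferInstanceAs (Epi (𝟙 _))
  haveI : IsIso φ₂.τ₂ := IsIso.id _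
  haveI : Mono φ₂.τ₃ := hm
  exact (ShortComplex.exact_iff_of_epi_of_isIso_of_mono φ₂).1 hE

/-- A quasi-isomorphism of bounded below complexes of acyclic objects stays one under `S`. -/
theorem quasiIso_map {K L : CochainComplex C ℤ} (φ : K ⟶ L) [QuasiIso φ] (a : ℤ) [K.IsStrictlyGE a]
    [L.IsStrictlyGE a] (hK : ∀ n, IsAcyclicObj S (K.X n)) (hL : ∀ n, IsAcyclicObj S (L.X n)) :
    QuasiIso ((S.mapHomologicalComplex (ComplexShape.up ℤ)).map φ) := by
  rw [quasiIso_iff_acyclic_mappingCone]
  haveI : (CochainComplex.mappingCone φ).IsStrictlyGE (a - 1) := by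
    haveI := K.isStrictlyGE_of_ge (a - 1) a (by lia)
    haveI := L.isStrictlyGE_of_ge (a - 1) a (by lia)
    refine (CochainComplex.isStrictlyGE_iff _ _).2 fun i hi => ?_
    rw [IsZero.iff_id_eq_zero, ← CochainComplex.mappingCone.id_X φ i (i + 1) rfl,
      (K.isZero_of_isStrictlyGE a (i + 1) (by lia)).eq_of_src ((CochainComplex.mappingCone.inl φ).v (i + 1) i (by lia)) 0,
      (L.isZero_of_isStrictlyGE a i (by lia)).eq_of_src ((CochainComplex.mappingCone.inr φ).f i) 0]
    simp
  refine fun n => HomologicalComplex.ExactAt.of_iso ?_ (CochainComplex.mappingCone.mapHomologicalComplexIso φ S)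
  exact acyclic_map (a - 1) ((quasiIso_iff_acyclic_mappingCone φ).1 ‹_›) (isAcyclicObj_cone φ hK hL) n

end Groth.Agent.GrothSS
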