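import Groth.Agent.GrothSS.Spectral
import Groth.Agent.GrothSS.Acyclic
import Mathlib.Algebra.Homology.DerivedCategory.RightDerivedFunctorPlus
import Mathlib.CategoryTheory.Abelian.Injective.Extend
import Mathlib.CategoryTheory.Triangulated.TStructure.SpectralObject
import Mathlib.Algebra.Homology.Embedding.ExtendHomology
import Mathlib.CategoryTheory.Triangulated.Adjunction

/-! # The hyper-derived functor on the bounded below derived category -/

universe w v u v' u'

open CategoryTheory CategoryTheory.Limits CategoryTheory.Pretriangulated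

namespace Groth.Agent.GrothSS

variable (C : Type u) [Category.{v} C] [Abelian C] [HasDerivedCategory.{w} C]

/-- injective complexes into the derived category -/
noncomputable abbrev injToD : HomotopyCategory.Plus (InjectiveObject C) ⥤ DerivedCategory.Plus C :=
  (InjectiveObject.ι C).mapHomotopyCategoryPlus ⋙ DerivedCategory.Plus.Qh

instance injToD_full : (injToD C).Full where
  map_surjective {K L} g := by
    obtain ⟨L₀, rfl⟩ := HomotopyCategory.Plus.quotient_obj_surjective L
    obtain ⟨f, rfl⟩ := (DerivedCategory.Plus.Qh_map_bijective_of_isKInjective _ _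
      (inferInstanceAs (CochainComplex.IsKInjective
        (((InjectiveObject.ι C).mapHomologicalComplex (.up ℤ)).obj L₀.obj)))).2 g
    obtain ⟨f, rfl⟩ := (InjectiveObject.ι C).mapHomotopyCategoryPlus.map_surjective f
    exact ⟨f, rfl⟩

instance injToD_faithful : (injToD C).Faithful where
  map_injective {K L} f g h := by
    obtain ⟨L₀, rfl⟩ := HomotopyCategory.Plus.quotient_obj_surjective L
    exact (InjectiveObject.ι C).mapHomotopyCategoryPlus.map_injective
      ((DerivedCategory.Plus.Qh_map_bijective_of_isKInjective _ _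
        (inferInstanceAs (CochainComplex.IsKInjective
          (((InjectiveObject.ι C).mapHomologicalComplex (.up ℤ)).obj L₀.obj)))).1 h)

variable [EnoughInjectives C]

instance injToD_isEquivalence : (injToD C).IsEquivalence where

/-- the equivalence -/
noncomputable def injEquiv : HomotopyCategory.Plus (InjectiveObject C) ≌ DerivedCategory.Plus C :=
  (injToD C).asEquivalence

noncomputable instance injEquiv_commShift : (injEquiv C).functor.CommShift ℤ :=
  inferInstanceAs ((injToD C).CommShift ℤ)

noncomputable instance injEquiv_inverse_commShift : (injEquiv C).inverse.CommShift ℤ :=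
  (injEquiv C).commShiftInverse ℤ

instance injEquiv_commShift' : (injEquiv C).CommShift ℤ := (injEquiv C).commShift_of_functor ℤ

instance injEquiv_inverse_isTriangulated : (injEquiv C).inverse.IsTriangulated :=
  haveI : (injEquiv C).functor.IsTriangulated := inferInstanceAs ((injToD C).IsTriangulated)
  haveI : (injEquiv C).toAdjunction.CommShift ℤ := inferInstanceAs ((injEquiv C).CommShift ℤ)
  (injEquiv C).toAdjunction.isTriangulated_rightAdjoint

variable {C} {D : Type u'} [Category.{v'} D] [Abelian D] (S : C ⥤ D) [S.Additive]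

/-- the total derived functor, with values in the homotopy category -/
noncomputable abbrev rTot : DerivedCategory.Plus C ⥤ HomotopyCategory D (ComplexShape.up ℤ) :=
  (injEquiv C).inverse ⋙ (InjectiveObject.ι C ⋙ S).mapHomotopyCategoryPlus ⋙ HomotopyCategory.Plus.ι D

/-- hypercohomology -/
noncomputable abbrev rH : DerivedCategory.Plus C ⥤ D :=
  rTot S ⋙ HomotopyCategory.homologyFunctor D (ComplexShape.up ℤ) 0

/-- evaluation on an injective resolution -/
theorem nonempty_rH_iso {X : DerivedCategory.Plus C} (L : CochainComplex C ℤ) (a : ℤ) [L.IsStrictlyGE a]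
    [∀ n, Injective (L.X n)] (e : Nonempty (DerivedCategory.Q.obj L ≅ X.obj)) (n : ℤ) :
    Nonempty (((rH S).shift n).obj X ≅
      ((S.mapHomologicalComplex (ComplexShape.up ℤ)).obj L).homology n) := by
  let L' : CochainComplex (InjectiveObject C) ℤ := HomologicalComplex.liftObjectProperty _ L inferInstance
  haveI hL' : L'.IsStrictlyGE a := by
    rw [← CochainComplex.isStrictlyGE_mapHomologicalComplex_obj_iff _ (InjectiveObject.ι C)]
    assumption
  let K : HomotopyCategory.Plus (InjectiveObject C) :=
    (HomotopyCategory.Plus.quotient _).obj ⟨L', a, hL'⟩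
  let e₁ : (injToD C).obj K ≅ X :=
    DerivedCategory.Plus.ι.preimageIso ((DerivedCategory.quotientCompQhIso C).app L ≪≫ e.some)
  exact ⟨((InjectiveObject.ι C ⋙ S).mapHomotopyCategoryPlus ⋙ HomotopyCategory.Plus.ι D ⋙
      HomotopyCategory.homologyFunctor D (ComplexShape.up ℤ) n).mapIso
        ((injEquiv C).inverse.mapIso e₁.symm ≪≫ ((injEquiv C).unitIso.app K).symm) ≪≫
    (HomotopyCategory.homologyFunctorFactors D (ComplexShape.up ℤ) n).app
      ((S.mapHomologicalComplex (ComplexShape.up ℤ)).obj L)⟩

omit [HasDerivedCategory.{w} C] [EnoughInjectives C] in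
lemma mapExtend_aux {E : Type*} [Category* E] (F : C ⥤ E) {A A' B B' : C} {X Y : E} (a : A ≅ A')
    (b : B ≅ B') (e : X ≅ F.obj A') (e' : Y ≅ F.obj B') (d : A' ⟶ B') :
    (F.map a.hom ≫ e.inv) ≫ e.hom ≫ F.map d ≫ e'.inv = F.map (a.hom ≫ d ≫ b.inv) ≫ F.map b.hom ≫ e'.inv := by
  rw [Category.assoc, e.inv_hom_id_assoc, ← F.map_comp_assoc, ← F.map_comp_assoc, Category.assoc,
    Category.assoc, b.inv_hom_id, Category.comp_id]

/-- extension by zero commutes with additive functors -/
noncomputable def mapExtendIso {E : Type*} [Category* E] [Abelian E] (F : C ⥤ E) [F.Additive]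
    (K : CochainComplex C ℕ) :
    (F.mapHomologicalComplex (ComplexShape.up ℤ)).obj (K.extend ComplexShape.embeddingUpNat) ≅
      ((F.mapHomologicalComplex (ComplexShape.up ℕ)).obj K).extend ComplexShape.embeddingUpNat :=
  HomologicalComplex.Hom.isoOfComponents (fun n =>
      if h : 0 ≤ n then
        F.mapIso (K.extendXIso ComplexShape.embeddingUpNat (i := n.toNat) (by simp; lia)) ≪≫
          (((F.mapHomologicalComplex (ComplexShape.up ℕ)).obj K).extendXIso
            ComplexShape.embeddingUpNat (i := n.toNat) (by simp; lia)).symm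
      else IsZero.iso (F.map_isZero (K.isZero_extend_X _ _ fun i => by simp; lia))
        (HomologicalComplex.isZero_extend_X _ _ _ fun i => by simp; lia))
    fun i j hij => by
      simp only [ComplexShape.up_Rel] at hij
      by_cases hi : 0 ≤ i
      · have hj : 0 ≤ j := by lia
        rw [dif_pos hi, dif_pos hj]
        simp only [Functor.mapHomologicalComplex_obj_d, Iso.trans_hom, Functor.mapIso_hom, Iso.symm_hom,
          K.extend_d_eq ComplexShape.embeddingUpNat (i := i.toNat) (j := j.toNat) (i' := i) (j' := j) (by simp; lia) (by simp; lia),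
          ((F.mapHomologicalComplex (ComplexShape.up ℕ)).obj K).extend_d_eq ComplexShape.embeddingUpNat
            (i := i.toNat) (j := j.toNat) (i' := i) (j' := j) (by simp; lia) (by simp; lia)]
        exact mapExtend_aux F _ _ _ _ _
      · exact IsZero.eq_of_src (F.map_isZero (K.isZero_extend_X _ _ fun k => by simp; lia)) _ _

lemma isZero_rH_of_isGE (X : DerivedCategory.Plus C) (a : ℤ) [X.IsGE a] (n : ℤ) (hn : n < a) :
    IsZero (((rH S).shift n).obj X) := by
  haveI : X.obj.IsGE a := (X.isGE_ι_obj_iff a).2 ‹_›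
  obtain ⟨K, _, ⟨e⟩⟩ := DerivedCategory.exists_iso_Q_obj_of_isGE X.obj a
  obtain ⟨L, i, hi, hL, _⟩ := CochainComplex.Plus.modelCategoryQuillen.exists_quasiIso_injective K a
  refine IsZero.of_iso ?_ (nonempty_rH_iso S L a ⟨(asIso (DerivedCategory.Q.map i)).symm ≪≫ e.symm⟩ n).some
  exact (ShortComplex.exact_iff_isZero_homology _).1
    (ShortComplex.exact_of_isZero_X₂ (((S.mapHomologicalComplex (ComplexShape.up ℤ)).obj L).sc n)
      (S.map_isZero (L.isZero_of_isStrictlyGE a n hn)))

/-- values on a single object -/
theorem nonempty_rH_single_iso [HasInjectiveResolutions C] (q : ℤ) (M : C) (p : ℕ) :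
    Nonempty (((rH S).shift ((p : ℤ) + q)).obj ((DerivedCategory.Plus.singleFunctor C q).obj M) ≅
      (S.rightDerived p).obj M) := by
  let I := injectiveResolution M
  obtain ⟨e₀⟩ := nonempty_rH_iso S (X := (DerivedCategory.Plus.singleFunctor C 0).obj M) I.cochainComplex 0
    ⟨(asIso (DerivedCategory.Q.map I.ι')).symm ≪≫
      ((DerivedCategory.singleFunctorIsoCompQ C 0).app M).symm⟩ p
  refine ⟨(((rH S).shiftIso q p ((p : ℤ) + q) (add_comm _ _)).app _).symm ≪≫
    ((rH S).shift (p : ℤ)).mapIso (((DerivedCategory.Plus.singleFunctors C).shiftIso q 0 q (add_zero q)).app M) ≪≫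
    e₀ ≪≫ ?_ ≪≫ (I.isoRightDerivedObj S p).symm⟩
  refine (HomologicalComplex.homologyFunctor D (ComplexShape.up ℤ) (p : ℤ)).mapIso
    (?_ : (S.mapHomologicalComplex _).obj I.cochainComplex ≅
      ((S.mapHomologicalComplex _).obj I.cocomplex).extend ComplexShape.embeddingUpNat) ≪≫
    HomologicalComplex.extendHomologyIso _ ComplexShape.embeddingUpNat (j := p) rfl
  exact mapExtendIso S I.cocomplex

/-- complexes of acyclic objects compute hypercohomology -/
theorem nonempty_rH_iso_of_acyclic [HasInjectiveResolutions C] [PreservesFiniteLimits S]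
    {X : DerivedCategory.Plus C} (K : CochainComplex C ℤ) (a : ℤ) [K.IsStrictlyGE a]
    (hK : ∀ n, IsAcyclicObj S (K.X n)) (e : Nonempty (DerivedCategory.Q.obj K ≅ X.obj)) (n : ℤ) :
    Nonempty (((rH S).shift n).obj X ≅
      ((S.mapHomologicalComplex (ComplexShape.up ℤ)).obj K).homology n) := by
  obtain ⟨L, i, hi, hL, _⟩ := CochainComplex.Plus.modelCategoryQuillen.exists_quasiIso_injective K a
  obtain ⟨e'⟩ := nonempty_rH_iso S (X := X) L a ⟨(asIso (DerivedCategory.Q.map i)).symm ≪≫ e.some⟩ n
  haveI := quasiIso_map (S := S) i a hK (fun m => isAcyclicObj_of_injective _)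
  exact ⟨e' ≪≫ (isoOfQuasiIsoAt ((S.mapHomologicalComplex (ComplexShape.up ℤ)).map i) n).symm⟩

end Groth.Agent.GrothSS
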