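import Groth.Agent.GrothSS.Functors
import Mathlib.CategoryTheory.Adjunction.Additive

/-! # Spectral sequences of `Ext` groups attached to adjunctions -/

universe v u v' u' v'' u''

open CategoryTheory CategoryTheory.Limits CategoryTheory.Abelian Opposite

namespace Groth.Agent.GrothSS

variable {A : Type u} [Category.{v} A] [Abelian A] [HasInjectiveResolutions A]
  {B : Type u'} [Category.{v} B] [Abelian B] [HasInjectiveResolutions B]

/-- derived functors of isomorphic functors are isomorphic -/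
noncomputable def rightDerivedCongr {D : Type u''} [Category.{v''} D] [Abelian D] {F G : A ⥤ D}
    [F.Additive] [G.Additive] (e : F ≅ G) (n : ℕ) : F.rightDerived n ≅ G.rightDerived n where
  hom := NatTrans.rightDerived e.hom n
  inv := NatTrans.rightDerived e.inv n
  hom_inv_id := by rw [← NatTrans.rightDerived_comp, e.hom_inv_id, NatTrans.rightDerived_id]
  inv_hom_id := by rw [← NatTrans.rightDerived_comp, e.inv_hom_id, NatTrans.rightDerived_id]

/-- `Hom(Y, R -) ≅ Hom(L Y, -)` -/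
noncomputable def homCompIso {L : B ⥤ A} {R : A ⥤ B} [L.Additive] (adj : L ⊣ R) (Y : B) :
    R ⋙ preadditiveCoyoneda.obj (op Y) ≅ preadditiveCoyoneda.obj (op (L.obj Y)) :=
  NatIso.ofComponents (fun X => (adj.homAddEquiv Y X).symm.toAddCommGrpIso)
    (fun f => by ext φ; exact adj.homEquiv_naturality_right_symm φ f)

omit [HasInjectiveResolutions A] in
lemma isAcyclicObj_hom [HasExt.{v} B] (Y W : B) (h : ∀ q : ℕ, Subsingleton (Ext.{v} Y W (q + 1))) :
    IsAcyclicObj (preadditiveCoyoneda.obj (op Y)) W := fun q =>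
  have := h q
  (@AddCommGrpCat.isZero_of_subsingleton _ (h q)).of_iso (nonempty_rightDerived_hom_iso Y W (q + 1)).some

/-- `Hom(L Y, -) = Hom(Y, R -)`, hence a spectral sequence `Ext^p(Y, R^qR X) ⇒ Ext^n(L Y, X)`. -/
theorem exists_spectralSequence_ext [HasExt.{v} A] [HasExt.{v} B] {L : B ⥤ A} {R : A ⥤ B} [L.Additive]
    [R.Additive] (adj : L ⊣ R) (Y : B) (hR : ∀ Q : A, Injective Q → ∀ q : ℕ, Subsingleton (Ext.{v} Y (R.obj Q) (q + 1)))
    (X : A) (Z : AddCommGrpCat.{v}) (hZ : IsZero Z)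
    (H : ℕ → AddCommGrpCat.{v}) (hH : ∀ n : ℕ, Nonempty (Ext.{v} (L.obj Y) X n ≃+ H n))
    (P : ℕ → ℕ → AddCommGrpCat.{v}) (hP : ∀ p q : ℕ, Nonempty (Ext.{v} Y ((R.rightDerived q).obj X) p ≃+ P p q)) :
    ∃ (E : E₂CohomologicalSpectralSequence AddCommGrpCat.{v})
      (a : SpSeq.Abutment E (fun n : ℤ => if 0 ≤ n then H n.toNat else Z)),
      (∀ n, a.IsFinite n) ∧ SpSeq.IsBounded E ∧
      ∀ p q : ℤ, Nonempty ((E.page 2 le_rfl).X (p, q) ≅
        (if 0 ≤ p ∧ 0 ≤ q then P p.toNat q.toNat else Z)) :=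
  exists_spectralSequence_comp_ite R (preadditiveCoyoneda.obj (op Y))
    (fun Q hQ => isAcyclicObj_hom Y _ (hR Q hQ)) X Z hZ H
    (fun n => ⟨(rightDerivedCongr (homCompIso adj Y) n).app X ≪≫
      (nonempty_rightDerived_hom_iso (L.obj Y) X n).some ≪≫ (hH n).some.toAddCommGrpIso⟩) P
    (fun p q => ⟨(nonempty_rightDerived_hom_iso Y _ p).some ≪≫ (hP p q).some.toAddCommGrpIso⟩)

end Groth.Agent.GrothSS
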