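import Groth.Agent.GrothSS.Inputs
import Groth.Agent.CohAcyc.ModExt
import Groth.Agent.CohAcyc.ModTensor
import Groth.Agent.SiteBase.ModHom

/-! # Local-to-global inputs on ringed sites -/

universe w v u

open CategoryTheory CategoryTheory.Limits CategoryTheory.Abelian Opposite

namespace Groth.Agent.GrothSS

/-- `Ext` along an isomorphism in the first variable -/
noncomputable def extIsoLeft {A : Type u} [Category.{v} A] [Abelian A] [HasExt.{w} A] {X X' : A}
    (e : X ≅ X') (M : A) (n : ℕ) : Ext.{w} X M n ≃+ Ext.{w} X' M n :=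
  (((extFunctor.{w} n).mapIso e.symm.op).app M).addCommGroupIsoToAddEquiv

open Groth.Agent.CohAcyc Groth.Agent.SiteBase

variable {C : Type u} [SmallCategory C] {J : GrothendieckTopology C} {O : Sheaf J CommRingCat.{u}}

/-- `Ext_O(O, F) = H(C, F)` -/
theorem nonempty_ext_unit_HC [HasExt.{u} (ModSite.Mod O)] (F : ModSite.Mod O) (p : ℕ) :
    Nonempty (Ext.{u} (ModSite.unit O) F p ≃+ ModSite.HC O F p) := by
  obtain ⟨e⟩ := nonempty_ext_oF (ptSh J) F p
  exact ⟨(extIsoLeft (unitIsoFree (ModSite.ringSh O)) F p).trans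
    (e.trans (extIsoLeft (constIsoFree J) _ p).symm)⟩

/-- global cohomology of internal homs into injectives vanishes -/
theorem subsingleton_ext_unit_sheafHom [HasExt.{u} (ModSite.Mod O)] (M Q : ModSite.Mod O)
    [ModSite.HasSheafHom M] [Injective Q] (q : ℕ) :
    Subsingleton (Ext.{u} (ModSite.unit O) ((ModSite.sheafHom M).obj Q) (q + 1)) := by
  haveI : Subsingleton (Ext ((zF J).obj (ptSh J)) (ModSite.toAb ((ModSite.sheafHom M).obj Q)) (q + 1)) :=
    isTotallyAcyclic_sheafHom M Q (ptSh J) q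
  obtain ⟨e⟩ := nonempty_ext_unit_HC ((ModSite.sheafHom M).obj Q) (q + 1)
  exact (e.trans (extIsoLeft (constIsoFree J) _ _)).subsingleton

/-- The local-to-global `Ext` spectral sequence. -/
theorem exists_spectralSequence_localGlobal [HasExt.{u} (ModSite.Mod O)] [HasInjectiveResolutions (ModSite.Mod O)]
    (M N : ModSite.Mod O) [ModSite.HasSheafHom M] (Z : AddCommGrpCat.{u}) (hZ : IsZero Z) :
    ∃ (E : E₂CohomologicalSpectralSequence AddCommGrpCat.{u})
      (a : SpSeq.Abutment E (fun n : ℤ => if 0 ≤ n then AddCommGrpCat.of (Ext.{u} M N n.toNat) else Z)),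
      (∀ n : ℤ, a.IsFinite n) ∧ SpSeq.IsBounded E ∧
      ∀ p q : ℤ, Nonempty ((E.page 2 le_rfl).X (p, q) ≅
        (if 0 ≤ p ∧ 0 ≤ q then
          AddCommGrpCat.of (ModSite.HC O (((ModSite.sheafHom M).rightDerived q.toNat).obj N) p.toNat) else Z)) :=
  haveI : (ModSite.sheafHom M).Additive := (ModSite.sheafHomAdj M).right_adjoint_additive
  exists_spectralSequence_ext (ModSite.sheafHomAdj M) (ModSite.unit O)
    (fun Q _ q => subsingleton_ext_unit_sheafHom M Q q) N Z hZ
    (fun n => AddCommGrpCat.of (Ext.{u} M N n))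
    (fun n => ⟨extIsoLeft (unitTensorIso M) N n⟩)
    (fun p q => AddCommGrpCat.of (ModSite.HC O (((ModSite.sheafHom M).rightDerived q).obj N) p))
    (fun p q => nonempty_ext_unit_HC _ p)

end Groth.Agent.GrothSS
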