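import Groth.Agent.GrothSS.Supports
import Groth.Agent.GrothSS.ModInputs
import Groth.Agent.CohAcyc.Sections
import Mathlib.CategoryTheory.Sites.Subsheaf

/-! # Cohomology with supports: comparison with abelian sheaves -/

universe u

open CategoryTheory CategoryTheory.Limits CategoryTheory.Abelian Opposite

namespace Groth.Agent.GrothSS

open Groth.Agent.CohAcyc

variable {C : Type u} [SmallCategory C] {J : GrothendieckTopology C}

/-- `Ext` along an isomorphism in the second variable -/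
noncomputable def extIsoRight {A : Type*} [Category* A] [Abelian A] [HasExt.{u} A] (X : A) {M M' : A}
    (e : M ≅ M') (n : ℕ) : Ext.{u} X M n ≃+ Ext.{u} X M' n :=
  ((extFunctorObj.{u} X n).mapIso e).addCommGroupIsoToAddEquiv

/-- Totally acyclic sheaves have no higher cohomology with supports. -/
theorem subsingleton_ext_coker {F : Ab J} (hF : CohCx.IsTotallyAcyclic F) {Y X : Sheaf J (Type u)}
    (a : Y ⟶ X) (q : ℕ) : Subsingleton (Ext (cokernel ((zF J).map a)) F (q + 1)) := by
  let i := (zF J).map (Sheaf.imageι a)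
  let S := ShortComplex.mk i (cokernel.π i) (cokernel.condition _)
  haveI : Mono i := zF_preservesMono (Sheaf.imageι a)
  have hS : S.ShortExact := { exact := ShortComplex.exact_cokernel _ }
  haveI : (zF J).IsLeftAdjoint := ⟨_, ⟨zAdj J⟩⟩
  haveI : Epi ((zF J).map (Sheaf.toImage a)) := Functor.map_epi _ _
  have e : cokernel ((zF J).map a) ≅ cokernel i :=
    cokernelIsoOfEq (by rw [← Functor.map_comp, Sheaf.toImage_ι]) ≪≫ cokernelEpiComp ((zF J).map (Sheaf.toImage a)) i
  refine subsingleton_of_iso e.symm (Iso.refl F) ?_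
  refine subsingleton_of_forall_eq 0 fun x => ?_
  obtain ⟨y, rfl⟩ := Ext.contravariant_sequence_exact₃ hS F x
    (haveI : Subsingleton (Ext S.X₂ F (q + 1)) := hF X q; Subsingleton.elim _ _)
    (show 1 + q = q + 1 from add_comm 1 q)
  cases q with
  | zero =>
    obtain ⟨s, rfl⟩ := Ext.addEquiv₀.symm.surjective y
    obtain ⟨t, ht⟩ := exists_extension hF (Sheaf.imageι a) s
    show hS.extClass.comp (Ext.mk₀ s) _ = 0
    rw [show s = S.f ≫ t from ht.symm, ← Ext.mk₀_comp_mk₀, ← Ext.comp_assoc_of_second_deg_zero, hS.extClass_comp, Ext.zero_comp]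
  | succ q =>
    haveI : Subsingleton (Ext S.X₁ F (q + 1)) := hF (Sheaf.image a) q
    rw [Subsingleton.elim y 0, Ext.comp_zero]

variable {O : Sheaf J CommRingCat.{u}} (U : C)

/-- the point is terminal -/
noncomputable def ptTerminal : IsTerminal (ptSh J) :=
  IsTerminal.ofUniqueHom (fun F => ⟨{ app := fun _ => ↾fun _ => PUnit.unit, naturality := fun _ _ _ => rfl }⟩)
    (fun F m => Sheaf.hom_ext (by ext V x; exact Subsingleton.elim (α := PUnit) _ _))

/-- `Z[e]` is the free sheaf on the point -/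
noncomputable def freeTermIso : (zF J).obj (⊤_ Sheaf J (Type u)) ≅ (zF J).obj (ptSh J) :=
  (zF J).mapIso (terminalIsTerminal.uniqueUpToIso ptTerminal)

/-- global sections of the abelian sheaf as maps of modules -/
noncomputable def thetaEquiv (M : ModSite.Mod O) :
    ((zF J).obj (⊤_ Sheaf J (Type u)) ⟶ ModSite.toAb M) ≃+ (ModSite.unit O ⟶ M) :=
  ((AddEquiv.mk (freeTermIso (J := J)).homFromEquiv (fun _ _ => Preadditive.comp_add _ _ _ _ _ _)).trans
    (homEquivAdd (R := ModSite.ringSh O) (ptSh J) M)).trans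
    (AddEquiv.mk (unitIsoFree (ModSite.ringSh O)).symm.homFromEquiv (fun _ _ => Preadditive.comp_add _ _ _ _ _ _))

lemma thetaEquiv_comp {M N : ModSite.Mod O} (g : M ⟶ N)
    (φ : (zF J).obj (⊤_ Sheaf J (Type u)) ⟶ ModSite.toAb M) :
    thetaEquiv N (φ ≫ (SheafOfModules.toSheaf _).map g) = thetaEquiv M φ ≫ g := by
  show _ ≫ homEquivAdd (R := ModSite.ringSh O) (ptSh J) N
      ((freeTermIso (J := J)).inv ≫ φ ≫ (SheafOfModules.toSheaf _).map g) =
    (_ ≫ homEquivAdd (R := ModSite.ringSh O) (ptSh J) M ((freeTermIso (J := J)).inv ≫ φ)) ≫ g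
  rw [Category.assoc, ← homEquivAdd_naturality_right, Category.assoc]

lemma unit_hom_app_eq_zero {M : ModSite.Mod O} (k : ModSite.unit O ⟶ M)
    (h : k.val.app (op U) (1 : O.obj.obj (op U)) = 0) {V : C} (g : V ⟶ U) (r : O.obj.obj (op V)) :
    k.val.app (op V) r = 0 := by
  have h1 : k.val.app (op V) (1 : O.obj.obj (op V)) = 0 := by
    refine (congrArg (k.val.app (op V)) (map_one (O.obj.map g.op).hom).symm).trans ?_
    refine (PresheafOfModules.naturality_apply k.val g.op (1 : O.obj.obj (op U))).trans ?_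
    exact (congrArg _ h).trans (map_zero _)
  refine ((congrArg (k.val.app (op V)) (mul_one r).symm).trans
    (map_smul (k.val.app (op V)).hom r (1 : O.obj.obj (op V)))).trans ?_
  exact (congrArg (r • ·) h1).trans (smul_zero r)

lemma unitIsoFree_hom_comp {R : Sheaf J RingCat.{u}} {M : SheafOfModules.{u} R}
    (φ : (oF R).obj (ptSh J) ⟶ M) :
    (unitIsoFree R).hom ≫ φ =
      M.unitHomEquiv.symm ((sectionsEquiv M).symm ((oAdj R).homEquiv (ptSh J) M φ)) := by
  refine (SheafOfModules.unitHomEquiv_symm_comp _ φ).trans (congrArg _ ?_)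
  conv_rhs => rw [← Category.id_comp φ, Adjunction.homEquiv_naturality_right]
  rfl

lemma thetaEquiv_vanish (M : ModSite.Mod O) (t : (zF J).obj (⊤_ Sheaf J (Type u)) ⟶ ModSite.toAb M) :
    (zF J).map (terminal.from (yonSh J U)) ≫ t = 0 ↔
      (ModSite.restr O U).map (thetaEquiv M t) = 0 := by
  have hz : secEquiv U (ModSite.toAb M) 0 = 0 := by
    have := secEquiv_comp U (0 : (zF J).obj (yonSh J U) ⟶ ModSite.toAb M) (0 : ModSite.toAb M ⟶ ModSite.toAb M)
    rw [comp_zero] at this
    exact this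
  rw [← (secEquiv U (ModSite.toAb M)).injective.eq_iff, hz]
  have hv : secEquiv U (ModSite.toAb M) ((zF J).map (terminal.from (yonSh J U)) ≫ t) =
      (thetaEquiv M t).val.app (op U) (1 : O.obj.obj (op U)) := by
    let t' : (zF J).obj (ptSh J) ⟶ ModSite.toAb M := (freeTermIso (J := J)).inv ≫ t
    let b : yonSh J U ⟶ ptSh J :=
      terminal.from (yonSh J U) ≫ (terminalIsTerminal.uniqueUpToIso ptTerminal).hom
    have h1 : (zF J).map (terminal.from (yonSh J U)) ≫ t = (zF J).map b ≫ t' := by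
      rw [Functor.map_comp, Category.assoc]
      exact congrArg (_ ≫ ·) ((freeTermIso (J := J)).hom_inv_id_assoc t).symm
    have h2 : secEquiv U (ModSite.toAb M) ((zF J).map b ≫ t') =
        (((zAdj J).homEquiv (ptSh J) _ t').hom.app (op U)) PUnit.unit := by
      simp only [secEquiv, Equiv.trans_apply]
      rw [Adjunction.homEquiv_naturality_left, Adjunction.homEquiv_naturality_right]
      exact congrArg (fun x => (((zAdj J).homEquiv (ptSh J) _ t').hom.app (op U)) x)
        (Subsingleton.elim (α := PUnit) _ PUnit.unit)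
    have h3 : thetaEquiv M t =
        M.unitHomEquiv.symm ((sectionsEquiv M).symm ((zAdj J).homEquiv (ptSh J) _ t')) :=
      (unitIsoFree_hom_comp _).trans (congrArg (fun s => M.unitHomEquiv.symm ((sectionsEquiv M).symm s))
        (((oAdj (ModSite.ringSh O)).homEquiv (ptSh J) M).apply_symm_apply _))
    rw [h1, h2, h3]
    exact (congrArg (fun s : M.sections => s.val (op U))
      (M.unitHomEquiv.apply_symm_apply ((sectionsEquiv M).symm ((zAdj J).homEquiv (ptSh J) _ t')))).symm
  rw [hv]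
  constructor
  · intro h
    apply (SheafOfModules.toSheaf _).map_injective
    ext Y r
    exact unit_hom_app_eq_zero U (thetaEquiv M t) h Y.unop.hom r
  · intro h
    exact congrArg (fun k : (ModSite.restr O U).obj (ModSite.unit O) ⟶ (ModSite.restr O U).obj M =>
      (k.val.app (op (Over.mk (𝟙 U)))).hom (1 : O.obj.obj (op U))) h

/-- `Hom(Z_Z, M) = Hom(O_Z, M)` -/
noncomputable def quotEquiv (M : ModSite.Mod O) :
    (ToposFin.quotZ (ToposFin.eps J U) ⟶ ModSite.toAb M) ≃+
      ((ModSite.quotOn O U).obj (ModSite.unit O) ⟶ M) where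
  toFun t := cokernel.desc _ (thetaEquiv M (cokernel.π ((zF J).map (terminal.from (yonSh J U))) ≫ t))
    ((restr_eq_zero_iff_counit U _).1 ((thetaEquiv_vanish U M _).1
      ((Category.assoc _ _ _).symm.trans ((congrArg (· ≫ t) (cokernel.condition _)).trans zero_comp))))
  invFun a := cokernel.desc _ ((thetaEquiv M).symm (cokernel.π ((ModSite.extZeroAdj O U).counit.app _) ≫ a))
    ((thetaEquiv_vanish U M _).2 (by
      rw [AddEquiv.apply_symm_apply]
      exact (restr_eq_zero_iff_counit U _).2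
        ((Category.assoc _ _ _).symm.trans ((congrArg (· ≫ a) (cokernel.condition _)).trans zero_comp))))
  left_inv t := coequalizer.hom_ext ((cokernel.π_desc _ _ _).trans
    ((congrArg (thetaEquiv M).symm (cokernel.π_desc _ _ _)).trans ((thetaEquiv M).symm_apply_apply _)))
  right_inv a := coequalizer.hom_ext ((cokernel.π_desc _ _ _).trans
    ((congrArg (thetaEquiv M) (cokernel.π_desc _ _ _)).trans ((thetaEquiv M).apply_symm_apply _)))
  map_add' s t := by
    apply coequalizer.hom_ext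
    refine (cokernel.π_desc _ _ _).trans (Eq.trans ?_ (Preadditive.comp_add _ _ _ _ _ _).symm)
    exact ((congrArg (thetaEquiv M) (Preadditive.comp_add _ _ _ _ _ _)).trans (map_add _ _ _)).trans
      (congr_arg₂ (· + ·) (cokernel.π_desc _ _ _).symm (cokernel.π_desc _ _ _).symm)

lemma quotEquiv_comp {M N : ModSite.Mod O} (g : M ⟶ N)
    (t : ToposFin.quotZ (ToposFin.eps J U) ⟶ ModSite.toAb M) :
    quotEquiv U N (t ≫ (SheafOfModules.toSheaf _).map g) = quotEquiv U M t ≫ g := by
  apply coequalizer.hom_ext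
  refine (cokernel.π_desc _ _ _).trans ?_
  refine ((congrArg (thetaEquiv N) (Category.assoc _ _ _).symm).trans (thetaEquiv_comp g _)).trans ?_
  exact ((congrArg (· ≫ g) (cokernel.π_desc _ _ _)).symm).trans (Category.assoc _ _ _)

/-- totally acyclic sheaves have no higher cohomology with supports -/
theorem subsingleton_ext_quotZ {F : Ab J} (hF : CohCx.IsTotallyAcyclic F) (q : ℕ) :
    Subsingleton (Ext (ToposFin.quotZ (ToposFin.eps J U)) F (q + 1)) :=
  subsingleton_ext_coker hF (terminal.from (yonSh J U)) q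

/-- `Ext_O(O_Z, F) = H_Z(F)` -/
theorem nonempty_ext_quot_HZ [HasExt.{u} (ModSite.Mod O)] (F : ModSite.Mod O) (p : ℕ) :
    Nonempty (Ext.{u} ((ModSite.quotOn O U).obj (ModSite.unit O)) F p ≃+ ModSite.HZ U F p) := by
  haveI : EnoughInjectives (ModSite.Mod O) := inferInstance
  haveI : PreservesColimitsOfSize.{u, u} (SheafOfModules.toSheaf.{u} (ModSite.ringSh O)) := inferInstance
  haveI : PreservesFiniteColimits (SheafOfModules.toSheaf.{u} (ModSite.ringSh O)) :=
    PreservesColimitsOfSize.preservesFiniteColimits.{u, u} _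
  exact nonempty_ext_equiv (SheafOfModules.toSheaf (ModSite.ringSh O)) (fun M => quotEquiv U M)
    (fun g φ => quotEquiv_comp U g φ)
    (fun I _ q => subsingleton_ext_quotZ U (isTotallyAcyclic_injective I) q) p F

variable [ModSite.HasPushOver O U] [HasExt.{u} (ModSite.Mod O)] [HasInjectiveResolutions (ModSite.Mod O)]
  (M N : ModSite.Mod O)

/-- `H^p_Z(ℰxt^q) ⇒ Ext^n_Z` -/
theorem exists_spectralSequence_HZ_extSh [ModSite.HasSheafHom M] (Z : AddCommGrpCat.{u}) (hZ : IsZero Z) :
    ∃ (E : E₂CohomologicalSpectralSequence AddCommGrpCat.{u})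
      (a : SpSeq.Abutment E (fun n : ℤ =>
        if 0 ≤ n then AddCommGrpCat.of (ExtSupp.ExtZ U M N n.toNat) else Z)),
      (∀ n, a.IsFinite n) ∧ SpSeq.IsBounded E ∧
      ∀ p q : ℤ, Nonempty ((E.page 2 le_rfl).X (p, q) ≅
        (if 0 ≤ p ∧ 0 ≤ q then AddCommGrpCat.of (ModSite.HZ U ((ModSite.extSh M q.toNat).obj N) p.toNat)
         else Z)) :=
  exists_spectralSequence_ext (ModSite.sheafHomAdj M) ((ModSite.quotOn O U).obj (ModSite.unit O))
    (fun Q _ q => (nonempty_ext_quot_HZ U _ (q + 1)).some.toEquiv.subsingleton_congr.2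
      (subsingleton_ext_quotZ U (isTotallyAcyclic_sheafHom M Q) q))
    N Z hZ (fun n => AddCommGrpCat.of (ExtSupp.ExtZ U M N n))
    (fun n => ⟨extIsoLeft (quotUnitTensorIso U M) N n⟩)
    (fun p q => AddCommGrpCat.of (ModSite.HZ U ((ModSite.extSh M q).obj N) p))
    (fun p q => nonempty_ext_quot_HZ U _ p)

/-- `H^p(ℰxt^q_Z) ⇒ Ext^n_Z` -/
theorem exists_spectralSequence_HC_extZSh [ModSite.HasSheafHom M] (Z : AddCommGrpCat.{u}) (hZ : IsZero Z) :
    ∃ (E : E₂CohomologicalSpectralSequence AddCommGrpCat.{u})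
      (a : SpSeq.Abutment E (fun n : ℤ =>
        if 0 ≤ n then AddCommGrpCat.of (ExtSupp.ExtZ U M N n.toNat) else Z)),
      (∀ n, a.IsFinite n) ∧ SpSeq.IsBounded E ∧
      ∀ p q : ℤ, Nonempty ((E.page 2 le_rfl).X (p, q) ≅
        (if 0 ≤ p ∧ 0 ≤ q then AddCommGrpCat.of (ModSite.HC O ((ModSite.extZSh U M q.toNat).obj N) p.toNat)
         else Z)) :=
  haveI : (ModSite.sheafHom ((ModSite.quotOn O U).obj M)).Additive := ModSite.sheafHom_additive O _
  exists_spectralSequence_ext (ModSite.sheafHomAdj ((ModSite.quotOn O U).obj M)) (ModSite.unit O)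
    (fun Q _ q => subsingleton_ext_unit_sheafHom _ Q q)
    N Z hZ (fun n => AddCommGrpCat.of (ExtSupp.ExtZ U M N n))
    (fun n => ⟨extIsoLeft (Groth.Agent.SiteBase.unitTensorIso _) N n⟩)
    (fun p q => AddCommGrpCat.of (ModSite.HC O ((ModSite.extZSh U M q).obj N) p))
    (fun p q => ⟨(extIsoRight (ModSite.unit O) ((rightDerivedCongr (sheafHomQuotIso U M) q).app N) p).trans
      (nonempty_ext_unit_HC _ p).some⟩)

/-- `Ext^p(M, ℋ^q_Z) ⇒ Ext^n_Z` -/
theorem exists_spectralSequence_ext_HZsh (Z : AddCommGrpCat.{u}) (hZ : IsZero Z) :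
    ∃ (E : E₂CohomologicalSpectralSequence AddCommGrpCat.{u})
      (a : SpSeq.Abutment E (fun n : ℤ =>
        if 0 ≤ n then AddCommGrpCat.of (ExtSupp.ExtZ U M N n.toNat) else Z)),
      (∀ n, a.IsFinite n) ∧ SpSeq.IsBounded E ∧
      ∀ p q : ℤ, Nonempty ((E.page 2 le_rfl).X (p, q) ≅
        (if 0 ≤ p ∧ 0 ≤ q then AddCommGrpCat.of (Ext.{u} M ((ModSite.HZsh O U q.toNat).obj N) p.toNat)
         else Z)) :=
  exists_spectralSequence_ext (quotSectAdj U) M
    (fun Q hQ q =>
      haveI : Injective ((ModSite.sectOn O U).obj Q) := (ModSite.sectOn O U).injective_obj Q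
      Ext.subsingleton_of_injective _ _ q)
    N Z hZ (fun n => AddCommGrpCat.of (ExtSupp.ExtZ U M N n)) (fun n => ⟨AddEquiv.refl _⟩)
    (fun p q => AddCommGrpCat.of (Ext.{u} M ((ModSite.HZsh O U q).obj N) p)) (fun p q => ⟨AddEquiv.refl _⟩)

/-- `H^p(ℋ^q_Z) ⇒ H^n_Z` -/
theorem exists_spectralSequence_HC_HZsh (Z : AddCommGrpCat.{u}) (hZ : IsZero Z) :
    ∃ (E : E₂CohomologicalSpectralSequence AddCommGrpCat.{u})
      (a : SpSeq.Abutment E (fun n : ℤ =>
        if 0 ≤ n then AddCommGrpCat.of (ModSite.HZ U M n.toNat) else Z)),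
      (∀ n, a.IsFinite n) ∧ SpSeq.IsBounded E ∧
      ∀ p q : ℤ, Nonempty ((E.page 2 le_rfl).X (p, q) ≅
        (if 0 ≤ p ∧ 0 ≤ q then AddCommGrpCat.of (ModSite.HC O ((ModSite.HZsh O U q.toNat).obj M) p.toNat)
         else Z)) :=
  exists_spectralSequence_ext (quotSectAdj U) (ModSite.unit O)
    (fun Q hQ q =>
      haveI : Injective ((ModSite.sectOn O U).obj Q) := (ModSite.sectOn O U).injective_obj Q
      Ext.subsingleton_of_injective _ _ q)
    M Z hZ (fun n => AddCommGrpCat.of (ModSite.HZ U M n)) (fun n => nonempty_ext_quot_HZ U M n)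
    (fun p q => AddCommGrpCat.of (ModSite.HC O ((ModSite.HZsh O U q).obj M) p))
    (fun p q => nonempty_ext_unit_HC _ p)

end Groth.Agent.GrothSS
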