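import Groth.Agent.GrothSS.Derived
import Mathlib.Algebra.Homology.DerivedCategory.FullyFaithful

/-! # The hypercohomology spectral sequence of a complex of acyclic objects -/

universe w v u v' u'

open CategoryTheory CategoryTheory.Limits CategoryTheory.Pretriangulated CategoryTheory.ComposableArrows

namespace Groth.Agent.GrothSS

variable {C : Type u} [Category.{v} C] [Abelian C]

section

variable [HasDerivedCategory.{w} C]

open DerivedCategory.Plus.TStructure in
lemma nonempty_homology_trunc_iso (X : DerivedCategory.Plus C) (q : ℤ) :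
    Nonempty ((DerivedCategory.homologyFunctor C q).obj ((t.truncGE q).obj ((t.truncLT (q + 1)).obj X)).obj ≅
      (DerivedCategory.homologyFunctor C q).obj X.obj) := by
  let Z := (t.truncLT (q + 1)).obj X
  have h₁ := DerivedCategory.Plus.ι.map_distinguished _ (t.triangleLTGE_distinguished (q + 1) X)
  have h₂ := DerivedCategory.Plus.ι.map_distinguished _ (t.triangleLTGE_distinguished q Z)
  haveI : ((t.truncGE (q + 1)).obj X).IsGE (q + 1) := inferInstanceAs (t.IsGE _ (q + 1))
  haveI : ((t.truncLT q).obj Z).IsLE (q - 1) := inferInstanceAs (t.IsLE _ (q - 1))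
  have za : ∀ i < q + 1, IsZero ((DerivedCategory.homologyFunctor C i).obj
      (DerivedCategory.Plus.ι.obj ((t.truncGE (q + 1)).obj X))) := fun i hi =>
    DerivedCategory.Plus.isZero_homology_of_isGE _ (q + 1) i hi
  have zb : ∀ i, q - 1 < i → IsZero ((DerivedCategory.homologyFunctor C i).obj
      (DerivedCategory.Plus.ι.obj ((t.truncLT q).obj Z))) := fun i hi =>
    DerivedCategory.Plus.isZero_homology_of_isLE _ (q - 1) i hi
  let a := (DerivedCategory.homologyFunctor C q).map
    (DerivedCategory.Plus.ι.mapTriangle.obj ((t.triangleLTGE (q + 1)).obj X)).mor₁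
  let b := (DerivedCategory.homologyFunctor C q).map
    (DerivedCategory.Plus.ι.mapTriangle.obj ((t.triangleLTGE q).obj Z)).mor₂
  haveI : Mono a := (DerivedCategory.HomologySequence.mono_homologyMap_mor₁_iff _ h₁ (q - 1) q (by lia)).2
    ((za _ (by lia)).eq_of_src _ _)
  haveI : Epi a := (DerivedCategory.HomologySequence.epi_homologyMap_mor₁_iff _ h₁ q).2
    ((za _ (by lia)).eq_of_tgt _ _)
  haveI : Mono b := (DerivedCategory.HomologySequence.mono_homologyMap_mor₂_iff _ h₂ q).2
    ((zb _ (by lia)).eq_of_src _ _)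
  haveI : Epi b := (DerivedCategory.HomologySequence.epi_homologyMap_mor₂_iff _ h₂ q (q + 1) rfl).2
    ((zb _ (by lia)).eq_of_tgt _ _)
  exact ⟨(@asIso _ _ _ _ b (isIso_of_mono_of_epi b)).symm ≪≫ @asIso _ _ _ _ a (isIso_of_mono_of_epi a)⟩

open DerivedCategory.Plus.TStructure in
lemma nonempty_single_iso (X : DerivedCategory.Plus C) (q : ℤ) :
    Nonempty ((t.truncGE q).obj ((t.truncLT (q + 1)).obj X) ≅
      (DerivedCategory.Plus.singleFunctor C q).obj ((DerivedCategory.homologyFunctor C q).obj X.obj)) := by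
  let Y := (t.truncGE q).obj ((t.truncLT (q + 1)).obj X)
  haveI : Y.IsGE q := inferInstanceAs (t.IsGE _ q)
  haveI : Y.IsLE q := by
    haveI : t.IsLE ((t.truncLT (q + 1)).obj X) q := t.isLE_of_le _ (q + 1 - 1) q (by lia)
    exact inferInstanceAs (t.IsLE ((t.eTruncGE.obj (q : EInt)).obj ((t.truncLT (q + 1)).obj X)) q)
  obtain ⟨M, ⟨e⟩⟩ := DerivedCategory.exists_iso_singleFunctor_obj_of_isGE_of_isLE (DerivedCategory.Plus.ι.obj Y) q
  obtain ⟨h⟩ := nonempty_homology_trunc_iso X q
  exact ⟨DerivedCategory.Plus.ι.preimageIso (e ≪≫ (DerivedCategory.singleFunctor C q).mapIso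
    (((DerivedCategory.singleFunctorCompHomologyFunctorIso C q).app M).symm ≪≫
      (DerivedCategory.homologyFunctor C q).mapIso e.symm ≪≫ h))⟩

end

variable {D : Type u'} [Category.{v'} D] [Abelian D]

/-- Grothendieck spectral sequence for a complex of acyclic objects. -/
theorem exists_spectralSequence_of_complex [HasInjectiveResolutions C] (S : C ⥤ D) [S.Additive]
    [PreservesFiniteLimits S] (K : CochainComplex C ℤ) [K.IsStrictlyGE 0]
    (hK : ∀ n, IsAcyclicObj S (K.X n)) (H : ℤ → D)
    (e : ∀ n, Nonempty (((S.mapHomologicalComplex (ComplexShape.up ℤ)).obj K).homology n ≅ H n)) :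
    ∃ (E : E₂CohomologicalSpectralSequence D) (a : SpSeq.Abutment E H),
      (∀ n, a.IsFinite n) ∧ SpSeq.IsBounded E ∧
      (∀ p q : ℤ, (p < 0 ∨ q < 0) → IsZero ((E.page 2 le_rfl).X (p, q))) ∧
      ∀ p q : ℕ, Nonempty ((E.page 2 le_rfl).X ((p : ℤ), (q : ℤ)) ≅
        (S.rightDerived p).obj (K.homology q)) := by
  letI := HasDerivedCategory.standard C
  haveI : EnoughInjectives C := enoughInjectives_of_resolutions
  let X : DerivedCategory.Plus C := DerivedCategory.Plus.Q.obj ⟨K, 0, inferInstance⟩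
  let eX : DerivedCategory.Q.obj K ≅ X.obj := ((DerivedCategory.quotientCompQhIso C).app K).symm
  haveI : X.IsGE 0 := (X.isGE_ι_obj_iff 0).1 (DerivedCategory.TStructure.t.isGE_of_iso eX 0)
  let t := DerivedCategory.Plus.TStructure.t (C := C)
  let Y := ofHomological (t.spectralObject X) (rH S)
  haveI : Y.IsFirstQuadrant :=
    { isZero₁ := fun i j hij hj n => ((rH S).shift n).map_isZero
        ((t.eTruncGE.obj i).map_isZero (t.isZero_eTruncLT_obj_obj X 0 j hj))
      isZero₂ := fun i j hij n hi => by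
        haveI : ((t.spectralObject X).ω₁.obj (mk₁ (homOfLE hij))).IsGE (n + 1) :=
          t.isGE_eTruncGE_obj_obj (n + 1) i (by
            induction i using WithBotTop.rec with
            | bot => simp at hi
            | coe a => simp at hi ⊢; lia
            | top => simp) _
        exact isZero_rH_of_isGE S _ (n + 1) n (by lia) }
  obtain ⟨E, a, ha, hb, hz, hE⟩ := exists_spectralSequence Y H (fun n => by
    obtain ⟨e₁⟩ := nonempty_rH_iso_of_acyclic S (X := X) K 0 hK ⟨eX⟩ n
    exact ⟨e₁ ≪≫ (e n).some⟩)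
  refine ⟨E, a, ha, hb, hz, fun p q => ?_⟩
  obtain ⟨e₂⟩ := hE p q
  obtain ⟨s⟩ := nonempty_single_iso X q
  obtain ⟨r⟩ := nonempty_rH_single_iso S (q : ℤ) ((DerivedCategory.homologyFunctor C q).obj X.obj) p
  exact ⟨e₂ ≪≫ ((rH S).shift ((p : ℤ) + q)).mapIso s ≪≫ r ≪≫ (S.rightDerived p).mapIso
    ((DerivedCategory.homologyFunctor C q).mapIso eX.symm ≪≫
      (DerivedCategory.homologyFunctorFactors C q).app K)⟩

end Groth.Agent.GrothSS
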