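import Groth.Prelude.Def_SpSeq
import Mathlib.Algebra.Homology.ShortComplex.HomologicalComplex

/-! # Spectral sequences concentrated in one row -/

universe v u

open CategoryTheory CategoryTheory.Limits

namespace Groth.Agent.GrothSS

variable {A : Type u} [Category.{v} A] [Abelian A]

lemma nonempty_homology_iso_X_of_zero {κ : Type*} {c : ComplexShape κ} (K : HomologicalComplex A c) (j : κ)
    (h₁ : ∀ i, K.d i j = 0) (h₂ : ∀ k, K.d j k = 0) : Nonempty (K.homology j ≅ K.X j) :=
  ⟨(ShortComplex.HomologyData.ofZeros (K.sc j) (h₁ _) (h₂ _)).left.homologyIso⟩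

variable (E : E₂CohomologicalSpectralSequence A) (hE : ∀ p q : ℤ, q ≠ 0 → IsZero ((E.page 2 le_rfl).X (p, q)))

include hE in
lemma nonempty_page_iso (r : ℤ) (hr : 2 ≤ r) (pq : ℤ × ℤ) :
    Nonempty ((E.page r hr).X pq ≅ (E.page 2 le_rfl).X pq) := by
  induction r, hr using Int.le_induction generalizing pq with
  | base => exact ⟨Iso.refl _⟩
  | succ r hr ih =>
    have hd : ∀ i k, (E.page r hr).d i k = 0 := fun i k => by
      by_cases h : (ComplexShape.up' ((r, 1 - r) : ℤ × ℤ)).Rel i k
      · have h' : i.2 + (1 - r) = k.2 := congrArg Prod.snd (show i + (r, 1 - r) = k from h)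
        by_cases hi : i.2 = 0
        · exact ((hE k.1 k.2 (by lia)).of_iso (ih k).some).eq_of_tgt _ _
        · exact ((hE i.1 i.2 hi).of_iso (ih i).some).eq_of_src _ _
      · exact (E.page r hr).shape _ _ h
    exact ⟨(E.iso r (r + 1) pq rfl hr).symm ≪≫
      (nonempty_homology_iso_X_of_zero _ pq (fun i => hd i pq) (fun k => hd pq k)).some ≪≫ (ih pq).some⟩

lemma eq_of_isZero_subquot {X : A} {Z B : Subobject X} (h : B ≤ Z) (hz : IsZero (SpSeq.subquot Z B h)) :
    B = Z := by
  haveI : Epi (B.ofLE Z h) := Abelian.epi_of_cokernel_π_eq_zero _ (hz.eq_of_tgt _ _)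
  haveI : IsIso (B.ofLE Z h) := isIso_of_mono_of_epi _
  exact Subobject.eq_of_comm (asIso (B.ofLE Z h)) (Subobject.ofLE_arrow h)

include hE in
/-- A spectral sequence concentrated in the row `q = 0` computes its abutment. -/
theorem nonempty_iso_of_row {H : ℤ → A} (a : SpSeq.Abutment E H) (n : ℤ) (ha : a.IsFinite n) :
    Nonempty (H n ≅ (E.page 2 le_rfl).X (n, 0)) := by
  have hgr : ∀ (m p : ℤ), m = n → Nonempty (SpSeq.grPiece (a.fil m) (a.anti m) p ≅
      SpSeq.grPiece (a.fil n) (a.anti n) p) := fun m p h => by subst h; exact ⟨Iso.refl _⟩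
  have hz : ∀ p, p ≠ n → a.fil n (p + 1) = a.fil n p := fun p hp =>
    eq_of_isZero_subquot (a.anti n (Int.le_add_one le_rfl))
      (((hE p (n - p) (by lia)).of_iso (nonempty_page_iso E hE _ (a.stat (p, n - p)).1 (p, n - p)).some).of_iso
        ((a.β (p, n - p)) ≪≫ (hgr (p + (n - p)) p (by lia)).some).symm)
  obtain ⟨⟨lo, hlo⟩, hi, hhi⟩ := ha
  change a.fil n lo = ⊤ at hlo
  change a.fil n hi = ⊥ at hhi
  have up : ∀ p, p ≤ n → ∀ k, p ≤ k → k ≤ n → a.fil n k = a.fil n p := fun p hp k hk => by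
    induction k, hk using Int.le_induction with
    | base => exact fun _ => rfl
    | succ k hk ih => exact fun hkn => (hz k (by lia)).trans (ih (by lia))
  have down : ∀ p, n + 1 ≤ p → a.fil n p = a.fil n (n + 1) := fun p hp => by
    induction p, hp using Int.le_induction with
    | base => rfl
    | succ k hk ih => exact (hz k (by lia)).trans ih
  have htop : a.fil n n = ⊤ := by
    rcases le_total lo n with h | h
    · rw [up lo h n h le_rfl, hlo]
    · exact top_le_iff.1 (hlo ▸ a.anti n h)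
  have hbot : a.fil n (n + 1) = ⊥ := by
    rcases le_total (n + 1) hi with h | h
    · rw [← down hi h, hhi]
    · exact le_bot_iff.1 (hhi ▸ a.anti n h)
  have he := (hgr (n + 0) n (add_zero n)).some.symm ≪≫ (a.β (n, 0)).symm ≪≫
    (nonempty_page_iso E hE _ (a.stat (n, 0)).1 (n, 0)).some
  haveI : IsIso (a.fil n n).arrow := by rw [htop]; infer_instance
  have hB : IsZero ((a.fil n (n + 1)) : A) := by
    have e0 : ((a.fil n (n + 1)) : A) ≅ ((⊥ : Subobject (H n)) : A) := Subobject.isoOfEq _ _ hbot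
    exact (initialIsInitial.isZero.of_iso Subobject.botCoeIsoInitial).of_iso e0
  exact ⟨(asIso (a.fil n n).arrow).symm ≪≫ cokernelZeroIsoTarget.symm ≪≫
    cokernelIsoOfEq (hB.eq_of_src 0 _) ≪≫ he⟩

end Groth.Agent.GrothSS
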