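import Groth.Agent.GrothSS.SuppInputs
import Groth.Agent.LocCohZLib.Derived
import Groth.Agent.SiteBase.ModGrothendieck

/-! # Ext with supports as derived functors -/

set_option autoImplicit false
set_option linter.all false
set_option backward.isDefEq.respectTransparency false
set_option backward.defeqAttrib.useBackward true

noncomputable section

universe u

open CategoryTheory CategoryTheory.Limits CategoryTheory.Abelian Opposite

namespace Groth.Agent.GrothSS

variable {C : Type u} [SmallCategory C] {J : GrothendieckTopology C} {O : Sheaf J CommRingCat.{u}}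
  [HasExt.{u} (ModSite.Mod O)] (U : C) [ModSite.HasPushOver O U] (M : ModSite.Mod O) [ModSite.HasSheafHom M]

/-- degree zero -/
def extZeroIso' : 𝟭 (ModSite.Mod O) ⋙ extFunctorObj ((ModSite.quotOn O U).obj M) 0 ≅ ExtSupp.gammaZHom U M :=
  let adj := (quotSectAdj U).comp (ModSite.sheafHomAdj M)
  haveI : (ModSite.sheafHom M).Additive := ModSite.sheafHom_additive O M
  haveI : (ModSite.sheafHom M ⋙ ModSite.sectOn O U).Additive := inferInstance
  haveI := adj.left_adjoint_additive
  NatIso.ofComponents
    (fun N => AddEquiv.toAddCommGrpIso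
      (Ext.addEquiv₀.trans ((AddEquiv.mk ((quotUnitTensorIso U M).symm.homFromEquiv (Z := N))
        (fun a b => Preadditive.comp_add _ _ _ _ _ _)).trans (adj.homAddEquiv (ModSite.unit O) N))))
    (fun {N N'} g => by
      ext x
      obtain ⟨a, rfl⟩ := Ext.addEquiv₀.symm.surjective x
      show adj.homEquiv _ _ (_ ≫ Ext.addEquiv₀ ((Ext.mk₀ a).comp (Ext.mk₀ g) (add_zero 0))) =
        adj.homEquiv _ _ (_ ≫ Ext.addEquiv₀ (Ext.mk₀ a)) ≫ (ModSite.sheafHom M ⋙ ModSite.sectOn O U).map g
      rw [Ext.mk₀_comp_mk₀, ← Adjunction.homEquiv_naturality_right, Category.assoc]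
      refine congrArg (fun z => adj.homEquiv _ _ (_ ≫ z)) ?_
      rw [show Ext.mk₀ (a ≫ g) = Ext.addEquiv₀.symm (a ≫ g) from rfl, AddEquiv.apply_symm_apply,
        show Ext.mk₀ a = Ext.addEquiv₀.symm a from rfl, AddEquiv.apply_symm_apply])

theorem nonempty_extZR_iso [HasInjectiveResolutions (ModSite.Mod O)] (q : ℕ) :
    Nonempty (ExtSupp.ExtZR U M q ≅ extFunctorObj ((ModSite.quotOn O U).obj M) q) := by
  haveI : EnoughInjectives (ModSite.Mod O) := inferInstance
  haveI : (ExtSupp.gammaZHom U M).Additive :=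
    haveI : (ModSite.sheafHom M).Additive := ModSite.sheafHom_additive O M
    inferInstance
  obtain ⟨e⟩ := LocCohZLib.nonempty_extFunctorObj_iso (𝟭 (ModSite.Mod O)) ((ModSite.quotOn O U).obj M)
    (fun I hI n => haveI := hI; Ext.subsingleton_of_injective _ _ n) (ExtSupp.gammaZHom U M) (extZeroIso' U M) q
  exact ⟨e.symm ≪≫ Functor.leftUnitor _⟩

end Groth.Agent.GrothSS
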