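import Groth.Agent.GrothSS.Composed
import Mathlib.Algebra.Category.Grp.Zero
import Groth.Agent.GrothSS.ExtRD

/-! # The Grothendieck spectral sequence of a composite functor -/

universe v u v' u' v'' u''

open CategoryTheory CategoryTheory.Limits Opposite

namespace Groth.Agent.GrothSS

variable {A : Type u} [Category.{v} A] [Abelian A] [HasInjectiveResolutions A]
  {B : Type u'} [Category.{v'} B] [Abelian B] [HasInjectiveResolutions B]
  {D : Type u''} [Category.{v''} D] [Abelian D]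

lemma isAcyclicObj_of_iso {S : B ⥤ D} [S.Additive] {X Y : B} (e : X ≅ Y) (h : IsAcyclicObj S X) :
    IsAcyclicObj S Y := fun q => (h q).of_iso ((S.rightDerived (q + 1)).mapIso e.symm)

/-- The Grothendieck spectral sequence, with prescribed abutment and second page. -/
theorem exists_spectralSequence_comp (T : A ⥤ B) [T.Additive] (S : B ⥤ D) [S.Additive]
    [PreservesFiniteLimits S] (hT : ∀ Q : A, Injective Q → IsAcyclicObj S (T.obj Q)) (X : A)
    (H : ℤ → D) (hH : ∀ n : ℕ, Nonempty (((T ⋙ S).rightDerived n).obj X ≅ H n))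
    (hH' : ∀ n : ℤ, n < 0 → IsZero (H n))
    (P : ℤ → ℤ → D) (hP : ∀ p q : ℕ, Nonempty ((S.rightDerived p).obj ((T.rightDerived q).obj X) ≅ P p q))
    (hP' : ∀ p q : ℤ, p < 0 ∨ q < 0 → IsZero (P p q)) :
    ∃ (E : E₂CohomologicalSpectralSequence D) (a : SpSeq.Abutment E H),
      (∀ n, a.IsFinite n) ∧ SpSeq.IsBounded E ∧
      ∀ p q : ℤ, Nonempty ((E.page 2 le_rfl).X (p, q) ≅ P p q) := by
  let I := injectiveResolution X
  let K : CochainComplex B ℤ := (T.mapHomologicalComplex (ComplexShape.up ℤ)).obj I.cochainComplex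
  have hKa : ∀ n, IsAcyclicObj S (K.X n) := fun n => hT _ inferInstance
  have hom : ∀ {E : Type u''} [Category.{v''} E] [Abelian E] (F : A ⥤ E) [F.Additive] (n : ℕ),
      Nonempty (((F.mapHomologicalComplex (ComplexShape.up ℤ)).obj I.cochainComplex).homology n ≅
        (F.rightDerived n).obj X) := fun F _ n =>
    ⟨HomologicalComplex.homologyMapIso (mapExtendIso F I.cocomplex) _ ≪≫
      HomologicalComplex.extendHomologyIso _ ComplexShape.embeddingUpNat (j := n) rfl ≪≫
      (I.isoRightDerivedObj F n).symm⟩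
  haveI : K.IsStrictlyGE 0 := by
    dsimp [K]; infer_instance
  obtain ⟨E, a, ha, hb, hz, hE⟩ := exists_spectralSequence_of_complex S K hKa H fun n => by
    by_cases hn : 0 ≤ n
    · obtain ⟨m, rfl⟩ := Int.eq_ofNat_of_zero_le hn
      exact ⟨(hom (T ⋙ S) m).some ≪≫ (hH m).some⟩
    · exact ⟨IsZero.iso ((ShortComplex.exact_iff_isZero_homology _).1
        (ShortComplex.exact_of_isZero_X₂ (((S.mapHomologicalComplex (ComplexShape.up ℤ)).obj K).sc n)
          (S.map_isZero (K.isZero_of_isStrictlyGE 0 n (by lia))))) (hH' n (by lia))⟩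
  refine ⟨E, a, ha, hb, fun p q => ?_⟩
  by_cases h : p < 0 ∨ q < 0
  · exact ⟨IsZero.iso (hz p q h) (hP' p q h)⟩
  · obtain ⟨p, rfl⟩ := Int.eq_ofNat_of_zero_le (a := p) (by lia)
    obtain ⟨q, rfl⟩ := Int.eq_ofNat_of_zero_le (a := q) (by lia)
    refine ⟨(hE p q).some ≪≫ (S.rightDerived p).mapIso
      (HomologicalComplex.homologyMapIso (mapExtendIso T I.cocomplex) _ ≪≫
      HomologicalComplex.extendHomologyIso _ ComplexShape.embeddingUpNat (j := q) rfl ≪≫
      (I.isoRightDerivedObj T q).symm) ≪≫ (hP p q).some⟩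

lemma isZero_addCommGrp_of_punit : IsZero (AddCommGrpCat.of PUnit.{v + 1}) :=
  @AddCommGrpCat.isZero_of_subsingleton _ (inferInstanceAs (Subsingleton PUnit))

omit [Abelian D] in
lemma isZero_ite {P : Prop} [Decidable P] {X Z : D} (hP : ¬P) (hZ : IsZero Z) :
    IsZero (if P then X else Z) := by
  rw [if_neg hP]; exact hZ

/-- The Grothendieck spectral sequence in the `if`-form of the milestones. -/
theorem exists_spectralSequence_comp_ite (T : A ⥤ B) [T.Additive] (S : B ⥤ D) [S.Additive]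
    [PreservesFiniteLimits S] (hT : ∀ Q : A, Injective Q → IsAcyclicObj S (T.obj Q)) (X : A)
    (Z : D) (hZ : IsZero Z)
    (H : ℕ → D) (hH : ∀ n : ℕ, Nonempty (((T ⋙ S).rightDerived n).obj X ≅ H n))
    (P : ℕ → ℕ → D) (hP : ∀ p q : ℕ, Nonempty ((S.rightDerived p).obj ((T.rightDerived q).obj X) ≅ P p q)) :
    ∃ (E : E₂CohomologicalSpectralSequence D)
      (a : SpSeq.Abutment E (fun n : ℤ => if 0 ≤ n then H n.toNat else Z)),
      (∀ n, a.IsFinite n) ∧ SpSeq.IsBounded E ∧
      ∀ p q : ℤ, Nonempty ((E.page 2 le_rfl).X (p, q) ≅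
        (if 0 ≤ p ∧ 0 ≤ q then P p.toNat q.toNat else Z)) :=
  exists_spectralSequence_comp T S hT X _ (fun n => ⟨(hH n).some ≪≫ eqToIso (by simp)⟩)
    (fun n hn => isZero_ite (by lia) hZ) (fun p q => if 0 ≤ p ∧ 0 ≤ q then P p.toNat q.toNat else Z)
    (fun p q => ⟨(hP p q).some ≪≫ eqToIso (by simp)⟩)
    (fun p q h => isZero_ite (by lia) hZ)

end Groth.Agent.GrothSS
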