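import Groth.Agent.GrothSS.Inputs
import Groth.Agent.GrothSS.ModInputs
import Groth.Agent.CohAcyc.Sections
import Groth.Agent.QCohBase.Derived

/-! # Leray spectral sequences on sites -/

universe u

open CategoryTheory CategoryTheory.Limits CategoryTheory.Abelian Opposite

namespace Groth.Agent.GrothSS

open Groth.Agent.CohAcyc
open scoped ZeroObject

variable {C D : Type u} [SmallCategory C] [SmallCategory D] {J : GrothendieckTopology C}
  {K : GrothendieckTopology D} (u : D ⥤ C) [u.IsContinuous K J]

instance preservesFiniteLimits_push : PreservesFiniteLimits (CohSite.push J K u) :=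
  haveI : PreservesLimitsOfSize.{0, 0} (CohSite.push J K u) :=
    (u.sheafAdjunctionContinuous AddCommGrpCat.{u} K J).rightAdjoint_preservesLimits
  PreservesLimitsOfSize.preservesFiniteLimits.{0, 0} _

/-- totally acyclic sheaves are acyclic for direct images -/
theorem isAcyclicObj_push (F : Ab J) (hF : CohCx.IsTotallyAcyclic F) :
    IsAcyclicObj (CohSite.push J K u) F := fun q => by
  refine QCohBase.isZero_rightDerived_obj_of_class (CohSite.push J K u) CohCx.IsTotallyAcyclic
    (fun e h k p => subsingleton_of_iso (Iso.refl _) e (h k p)) (fun hT h₁ h₂ k p => ?_) (fun {T} hT h₁ => ?_) hF q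
  · haveI := h₂
    exact subsingleton_quot_of_ses hT (Ext.subsingleton_of_injective _ _ p) (h₁ k (p + 1))
  · exact (shortExact_push u hT (fun U => surjective_of_acyclic hT U (subsingleton_HU h₁ U 0))).epi_g

/-- maps out of the pulled-back free sheaf are sections -/
noncomputable def pullSecEquiv (V : D) (M : Ab J) :
    ((u.sheafPullback AddCommGrpCat.{u} K J).obj (CohCx.freeSheaf K V) ⟶ M) ≃ M.obj.obj (op (u.obj V)) :=
  ((u.sheafAdjunctionContinuous AddCommGrpCat.{u} K J).homEquiv _ M).trans
    ((freeSheafIso (J := K) V).homFromEquiv.trans (secEquiv V ((CohSite.push J K u).obj M)))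

lemma pullSecEquiv_comp (V : D) {M N : Ab J}
    (ψ : (u.sheafPullback AddCommGrpCat.{u} K J).obj (CohCx.freeSheaf K V) ⟶ M) (g : M ⟶ N) :
    pullSecEquiv u V N (ψ ≫ g) = g.hom.app (op (u.obj V)) (pullSecEquiv u V M ψ) := by
  show secEquiv V _ ((freeSheafIso V).inv ≫ (u.sheafAdjunctionContinuous AddCommGrpCat.{u} K J).homEquiv _ N (ψ ≫ g)) = _
  rw [Adjunction.homEquiv_naturality_right, ← Category.assoc, secEquiv_comp]
  rfl

/-- pullback of the free sheaf on an object -/
noncomputable def pullFreeIso (V : D) :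
    (u.sheafPullback AddCommGrpCat.{u} K J).obj (CohCx.freeSheaf K V) ≅ CohCx.freeSheaf J (u.obj V) :=
  isoOfHomEquiv (fun M => (freeSheafIso (J := J) (u.obj V)).homFromEquiv.trans
      ((secEquiv (u.obj V) M).trans (pullSecEquiv u V M).symm))
    (fun {M N} g φ => by
      apply (pullSecEquiv u V N).injective
      rw [pullSecEquiv_comp]
      simp only [Equiv.trans_apply, Equiv.apply_symm_apply, Iso.homFromEquiv_apply]
      rw [← Category.assoc, secEquiv_comp])

/-- Leray spectral sequence at an object -/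
theorem exists_spectralSequence_leray [PreservesFiniteLimits (u.sheafPullback (Type u) K J)]
    (M : Sheaf J AddCommGrpCat.{u}) (V : D) (Z : AddCommGrpCat.{u}) (hZ : IsZero Z) :
    ∃ (E : E₂CohomologicalSpectralSequence AddCommGrpCat.{u})
      (a : SpSeq.Abutment E (fun n : ℤ =>
        if 0 ≤ n then AddCommGrpCat.of (CohSite.HU M n.toNat (u.obj V)) else Z)),
      (∀ n, a.IsFinite n) ∧ SpSeq.IsBounded E ∧
      ∀ p q : ℤ, Nonempty ((E.page 2 le_rfl).X (p, q) ≅
        (if 0 ≤ p ∧ 0 ≤ q then AddCommGrpCat.of (CohSite.HU ((CohSite.Rpush J K u q.toNat).obj M) p.toNat V)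
         else Z)) :=
  haveI : (u.sheafPullback AddCommGrpCat.{u} K J).Additive :=
    (u.sheafAdjunctionContinuous AddCommGrpCat.{u} K J).left_adjoint_additive
  exists_spectralSequence_ext (u.sheafAdjunctionContinuous AddCommGrpCat.{u} K J) (CohCx.freeSheaf K V)
    (fun Q hQ q => subsingleton_HU (isTotallyAcyclic_push u (haveI := hQ; isTotallyAcyclic_of_injective Q)) V q)
    M Z hZ (fun n => AddCommGrpCat.of (CohSite.HU M n (u.obj V)))
    (fun n => ⟨extIsoLeft (pullFreeIso u V) M n⟩)
    (fun p q => AddCommGrpCat.of (CohSite.HU ((CohSite.Rpush J K u q).obj M) p V))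
    (fun p q => ⟨AddEquiv.refl _⟩)

/-- composition of higher direct images -/
theorem exists_spectralSequence_push_comp {B : Type u} [SmallCategory B] {L : GrothendieckTopology B}
    [PreservesFiniteLimits (u.sheafPullback (Type u) K J)] (w : B ⥤ D) [w.IsContinuous L K]
    [(w ⋙ u).IsContinuous L J] (M : Sheaf J AddCommGrpCat.{u}) :
    ∃ (E : E₂CohomologicalSpectralSequence (Sheaf L AddCommGrpCat.{u}))
      (a : SpSeq.Abutment E (fun n : ℤ =>
        if 0 ≤ n then (CohSite.Rpush J L (w ⋙ u) n.toNat).obj M else 0)),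
      (∀ n, a.IsFinite n) ∧ SpSeq.IsBounded E ∧
      ∀ p q : ℤ, Nonempty ((E.page 2 le_rfl).X (p, q) ≅
        (if 0 ≤ p ∧ 0 ≤ q then (CohSite.Rpush K L w p.toNat).obj ((CohSite.Rpush J K u q.toNat).obj M) else 0)) :=
  exists_spectralSequence_comp_ite (CohSite.push J K u) (CohSite.push K L w)
    (fun Q hQ => isAcyclicObj_push w _ (isTotallyAcyclic_push u (haveI := hQ; isTotallyAcyclic_of_injective Q)))
    M 0 (isZero_zero _) (fun n => (CohSite.Rpush J L (w ⋙ u) n).obj M)
    (fun n => ⟨(rightDerivedCongr (Functor.sheafPushforwardContinuousComp w u AddCommGrpCat.{u} L K J) n).app M⟩)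
    (fun p q => (CohSite.Rpush K L w p).obj ((CohSite.Rpush J K u q).obj M)) (fun p q => ⟨Iso.refl _⟩)

end Groth.Agent.GrothSS
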