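import Mathlib.Algebra.Homology.SpectralObject.FirstPage
import Mathlib.Algebra.Homology.SpectralObject.EpiMono
import Mathlib.CategoryTheory.Triangulated.SpectralObject
import Mathlib.CategoryTheory.Triangulated.HomologicalFunctor
import Groth.Prelude.Def_SpSeq
import Mathlib.Data.Int.Interval

/-! # Spectral sequence with abutment from a first quadrant spectral object -/

universe v u

open CategoryTheory CategoryTheory.Limits ComposableArrows

namespace Groth.Agent.GrothSS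

section Homological

variable {D : Type*} [Category* D] [HasZeroObject D] [HasShift D ℤ] [Preadditive D]
  [∀ n : ℤ, (shiftFunctor D n).Additive] [Pretriangulated D] {A : Type*} [Category* A] [Abelian A]
  {ι : Type*} [Category* ι]

/-- a homological functor maps spectral objects to spectral objects -/
noncomputable def ofHomological (X : Triangulated.SpectralObject D ι) (G : D ⥤ A) [G.IsHomological]
    [G.ShiftSequence ℤ] : Abelian.SpectralObject A ι where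
  H n := X.ω₁ ⋙ G.shift n
  δ' n₀ n₁ h :=
    { app := fun E => G.homologySequenceδ (X.ω₂.obj E) n₀ n₁ h
      naturality := fun _ _ φ => G.homologySequenceδ_naturality _ _ (X.ω₂.map φ) n₀ n₁ h }
  exact₁' n₀ n₁ h E :=
    (G.homologySequence_exact₁ _ (X.ω₂_obj_distinguished E) n₀ n₁ h).exact_toComposableArrows
  exact₂' n E :=
    (G.homologySequence_exact₂ _ (X.ω₂_obj_distinguished E) n).exact_toComposableArrows
  exact₃' n₀ n₁ h E :=
    (G.homologySequence_exact₃ _ (X.ω₂_obj_distinguished E) n₀ n₁ h).exact_toComposableArrows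

end Homological

variable {A : Type u} [Category.{v} A] [Abelian A]
  (Y : Abelian.SpectralObject A EInt)

/-- `H^n(⊥ ≤ j) ⟶ H^n(⊥ ≤ ⊤)` -/
noncomputable def toTot (n : ℤ) (j : EInt) :
    (Y.H n).obj (mk₁ (homOfLE (bot_le : ⊥ ≤ j))) ⟶ (Y.H n).obj (mk₁ (homOfLE (bot_le : (⊥ : EInt) ≤ ⊤))) :=
  (Y.H n).map (twoδ₂Toδ₁' ⊥ j ⊤ bot_le le_top)

/-- transition maps -/
noncomputable def toNext (n : ℤ) {i j : EInt} (h : i ≤ j) :
    (Y.H n).obj (mk₁ (homOfLE (bot_le : ⊥ ≤ i))) ⟶ (Y.H n).obj (mk₁ (homOfLE (bot_le : ⊥ ≤ j))) :=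
  (Y.H n).map (twoδ₂Toδ₁' ⊥ i j bot_le h)

@[reassoc]
lemma toNext_toTot (n : ℤ) {i j : EInt} (h : i ≤ j) : toNext Y n h ≫ toTot Y n j = toTot Y n i :=
  ((Y.H n).map_comp _ _).symm.trans (congrArg _ (hom_ext₁ (Category.comp_id _) rfl))

/-- the filtration step `F_j` -/
noncomputable abbrev step (n : ℤ) (j : EInt) :
    Subobject ((Y.H n).obj (mk₁ (homOfLE (bot_le : (⊥ : EInt) ≤ ⊤)))) :=
  imageSubobject (toTot Y n j)

lemma step_mono (n : ℤ) {i j : EInt} (h : i ≤ j) : step Y n i ≤ step Y n j := by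
  simp only [step, ← toNext_toTot Y n h]
  exact imageSubobject_comp_le _ _

lemma nonempty_E_iso_cokernel (n₀ n n₂ : ℤ) (h₁ : n₀ + 1 = n) (h₂ : n + 1 = n₂) {j' j : EInt}
    (h : j' ≤ j) :
    Nonempty (Y.E (homOfLE (bot_le : ⊥ ≤ j')) (homOfLE h) (homOfLE (le_top : j ≤ ⊤)) n₀ n n₂ h₁ h₂ ≅
      cokernel ((step Y n j').ofLE (step Y n j) (step_mono Y n h))) := by
  let d := biprod.desc (toNext Y n h)
    (Y.δ (homOfLE (bot_le : ⊥ ≤ j)) (homOfLE (le_top : j ≤ ⊤)) n₀ n h₁)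
  let b := factorThruImageSubobject (toTot Y n j)
  let π : (Y.H n).obj (mk₁ (homOfLE (bot_le : ⊥ ≤ j))) ⟶ _ :=
    b ≫ cokernel.π ((step Y n j').ofLE (step Y n j) (step_mono Y n h))
  have hb : toNext Y n h ≫ b =
      factorThruImageSubobject (toTot Y n j') ≫ (step Y n j').ofLE (step Y n j) (step_mono Y n h) := by
    apply (cancel_mono (step Y n j).arrow).1
    simp [b, step, toNext_toTot]
  have hδ : Y.δ (homOfLE (bot_le : ⊥ ≤ j)) (homOfLE (le_top : j ≤ ⊤)) n₀ n h₁ ≫ b = 0 := by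
    apply (cancel_mono (step Y n j).arrow).1
    simp only [Category.assoc, zero_comp, b, imageSubobject_arrow_comp]
    exact Y.zero₁ _ _ _ rfl n₀ n h₁
  have hw : d ≫ π = 0 := by
    refine biprod.hom_ext' _ _ ?_ ?_
    · simp only [d, π, comp_zero, biprod.inl_desc_assoc]
      rw [reassoc_of% hb, cokernel.condition, comp_zero]
    · simp only [d, π, comp_zero, biprod.inr_desc_assoc]
      rw [reassoc_of% hδ, zero_comp]
  haveI : Epi π := epi_comp _ _
  have hex : (ShortComplex.mk d π hw).Exact := by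
    rw [ShortComplex.exact_iff_exact_up_to_refinements]
    intro T x hx
    obtain ⟨T₁, π₁, _, y, hy⟩ := (ShortComplex.exact_of_g_is_cokernel
      (ShortComplex.mk _ _ (cokernel.condition ((step Y n j').ofLE (step Y n j) (step_mono Y n h))))
        (cokernelIsCokernel _)).exact_up_to_refinements (x ≫ b) ((Category.assoc _ _ _).trans hx)
    obtain ⟨T₂, π₂, _, z, hz⟩ := surjective_up_to_refinements_of_epi
      (factorThruImageSubobject (toTot Y n j')) y
    have h0 : (π₂ ≫ π₁ ≫ x - z ≫ toNext Y n h) ≫ toTot Y n j = 0 := by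
      rw [Preadditive.sub_comp, sub_eq_zero]
      simp only [Category.assoc]
      rw [toNext_toTot, ← imageSubobject_arrow_comp (toTot Y n j), ← imageSubobject_arrow_comp (toTot Y n j'),
        reassoc_of% hy]
      rw [← reassoc_of% hz, Subobject.ofLE_arrow]
    obtain ⟨T₃, π₃, _, w, hw'⟩ :=
      (Y.exact₁ (homOfLE (bot_le : ⊥ ≤ j)) (homOfLE (le_top : j ≤ ⊤)) _ rfl n₀ n h₁).exact_up_to_refinements
        (π₂ ≫ π₁ ≫ x - z ≫ toNext Y n h) h0
    refine ⟨T₃, π₃ ≫ π₂ ≫ π₁, inferInstance, biprod.lift (π₃ ≫ z) w, ?_⟩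
    have hw'' : π₃ ≫ (π₂ ≫ π₁ ≫ x - z ≫ toNext Y n h) =
        w ≫ Y.δ (homOfLE (bot_le : ⊥ ≤ j)) (homOfLE (le_top : j ≤ ⊤)) n₀ n h₁ := hw'
    rw [Preadditive.comp_sub, sub_eq_iff_eq_add'] at hw''
    show (π₃ ≫ π₂ ≫ π₁) ≫ x = biprod.lift (π₃ ≫ z) w ≫ biprod.desc (toNext Y n h) (Y.δ _ _ n₀ n h₁)
    rw [biprod.lift_desc, Category.assoc, Category.assoc, Category.assoc, hw'']
  exact ⟨IsColimit.coconePointUniqueUpToIso
    (Y.cokernelSequenceE_exact (homOfLE (bot_le : ⊥ ≤ j')) (homOfLE h) (homOfLE (le_top : j ≤ ⊤))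
      (homOfLE bot_le) rfl n₀ n n₂ h₁ h₂).gIsCokernel hex.gIsCokernel⟩

omit Y in
lemma map_obj_eq_mk {X X' : A} (f : X ⟶ X') [Mono f] (P : Subobject X) :
    (Subobject.map f).obj P = Subobject.mk (P.arrow ≫ f) := by
  conv_lhs => rw [← Subobject.mk_arrow P]
  rw [Subobject.map_mk]

omit Y in
/-- transport of a subquotient along an isomorphism -/
noncomputable def mapSubquotIso {X X' : A} (f : X ⟶ X') [Mono f] {P Q : Subobject X} (h : P ≤ Q) :
    cokernel (P.ofLE Q h) ≅ cokernel (((Subobject.map f).obj P).ofLE ((Subobject.map f).obj Q)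
      ((Subobject.map f).map (homOfLE h)).le) :=
  cokernel.mapIso _ _
    ((Subobject.underlyingIso (P.arrow ≫ f)).symm ≪≫ Subobject.isoOfEq _ _ (map_obj_eq_mk f P).symm)
    ((Subobject.underlyingIso (Q.arrow ≫ f)).symm ≪≫ Subobject.isoOfEq _ _ (map_obj_eq_mk f Q).symm) (by
      apply (cancel_mono (Subobject.arrow _)).1
      simp)

variable [Y.IsFirstQuadrant]

lemma step_eq_top (n : ℤ) {j : EInt} (hj : (n : EInt) < j) : step Y n j = ⊤ := by
  haveI : Epi (toTot Y n j) :=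
    (Y.exact₂ (homOfLE (bot_le : ⊥ ≤ j)) (homOfLE (le_top : j ≤ ⊤)) _ rfl n).epi_f
      ((Y.isZero₂_of_isFirstQuadrant _ _ le_top n hj).eq_of_tgt _ _)
  haveI : Epi (step Y n j).arrow := epi_of_epi_fac (imageSubobject_arrow_comp (toTot Y n j))
  haveI : IsIso (step Y n j).arrow := isIso_of_mono_of_epi _
  exact Subobject.eq_top_of_isIso_arrow _

lemma step_eq_bot (n : ℤ) {j : EInt} (hj : j ≤ (0 : ℤ)) : step Y n j = ⊥ := by
  simp only [step, show toTot Y n j = 0 from (Y.isZero₁_of_isFirstQuadrant _ _ bot_le hj n).eq_of_src _ _,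
    imageSubobject_zero]

lemma nonempty_limit_iso (n₀ n n₂ : ℤ) (h₁ : n₀ + 1 = n) (h₂ : n + 1 = n₂) {i₀ j' j i₃ : EInt}
    (h₀ : i₀ ≤ j') (h : j' ≤ j) (h₃ : j ≤ i₃) (hi₀ : i₀ ≤ (0 : ℤ)) (hi₃ : (n₀ : EInt) < i₃) :
    Nonempty (Y.E (homOfLE h₀) (homOfLE h) (homOfLE h₃) n₀ n n₂ h₁ h₂ ≅
      cokernel ((step Y n j').ofLE (step Y n j) (step_mono Y n h))) := by
  obtain ⟨e⟩ := nonempty_E_iso_cokernel Y n₀ n n₂ h₁ h₂ h
  exact ⟨(Y.isoMapFourδ₁Toδ₀' ⊥ i₀ j' j i₃ bot_le h₀ h h₃ n₀ n n₂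
      (Y.isZero₁_of_isFirstQuadrant _ _ _ hi₀ _) h₁ h₂).symm ≪≫
    Y.isoMapFourδ₄Toδ₃' ⊥ j' j i₃ ⊤ bot_le h h₃ le_top n₀ n n₂
      (Y.isZero₂_of_isFirstQuadrant _ _ le_top _ hi₃) h₁ h₂ ≪≫ e⟩

open Abelian.SpectralObject in
lemma isZero_page_of_neg (r : ℤ) (hr : 2 ≤ r) (pq : ℤ × ℤ) (h : pq.1 < 0 ∨ pq.2 < 0) :
    IsZero ((Y.E₂SpectralSequence.page r hr).X pq) := by
  apply isZero_spectralSequence_page_X_of_isZero_H' _ _ _ hr
  rcases h with h | h
  · exact Y.isZero₂_of_isFirstQuadrant _ _ _ _ (by simp; lia)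
  · exact Y.isZero₁_of_isFirstQuadrant _ _ _ (by simp; lia) _

/-- A first quadrant spectral object gives a convergent spectral sequence. -/
theorem exists_spectralSequence (H : ℤ → A)
    (e : ∀ n, Nonempty ((Y.H n).obj (mk₁ (homOfLE (bot_le : (⊥ : EInt) ≤ ⊤))) ≅ H n)) :
    ∃ (E : E₂CohomologicalSpectralSequence A) (a : SpSeq.Abutment E H),
      (∀ n, a.IsFinite n) ∧ SpSeq.IsBounded E ∧
      (∀ p q : ℤ, (p < 0 ∨ q < 0) → IsZero ((E.page 2 le_rfl).X (p, q))) ∧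
      ∀ p q : ℤ, Nonempty ((E.page 2 le_rfl).X (p, q) ≅
        (Y.H (p + q)).obj (mk₁ (homOfLE (show ((q : ℤ) : EInt) ≤ ((q + 1 : ℤ) : EInt) by simp)))) := by
  let ee := fun n => (e n).some
  let G : ∀ n, ℤ → Subobject (H n) := fun n p =>
    (Subobject.map (ee n).hom).obj (step Y n ((n - p + 1 : ℤ) : EInt))
  have hG : ∀ n, Antitone (G n) := fun n p p' h =>
    ((Subobject.map (ee n).hom).map (homOfLE (step_mono Y n (by simp; lia)))).le
  let rk : ℤ × ℤ → ℤ := fun pq => 3 + |pq.1| + |pq.2|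
  have hrk : ∀ pq : ℤ × ℤ, 2 ≤ rk pq := fun pq => by
    have := abs_nonneg pq.1; have := abs_nonneg pq.2; simp only [rk]; lia
  have hbd : ∀ pq : ℤ × ℤ, pq.1 < rk pq ∧ pq.2 + 1 < rk pq := fun pq => by
    have := le_abs_self pq.1; have := le_abs_self pq.2; have := abs_nonneg pq.1; have := abs_nonneg pq.2
    simp only [rk]; lia
  have hst : ∀ pq, SpSeq.StationaryAt Y.E₂SpectralSequence pq (rk pq) := fun pq =>
    ⟨hrk pq, fun r hr hr' => ⟨(isZero_page_of_neg Y r hr _ (Or.inl (by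
        have := hbd pq; simp; lia))).eq_of_src _ _,
      (isZero_page_of_neg Y r hr _ (Or.inr (by have := hbd pq; simp; lia))).eq_of_tgt _ _⟩⟩
  have hβ : ∀ pq : ℤ × ℤ, Nonempty ((Y.E₂SpectralSequence.page (rk pq) (hrk pq)).X pq ≅
      SpSeq.grPiece (G (pq.1 + pq.2)) (hG (pq.1 + pq.2)) pq.1) := fun pq => by
    obtain ⟨p, q⟩ := pq
    have hb := hbd (p, q)
    obtain ⟨l⟩ := nonempty_limit_iso Y (p + q - 1) (p + q) (p + q + 1) (by lia) rfl
      (i₀ := ((q - rk (p, q) + 2 : ℤ) : EInt)) (j' := ((p + q - (p + 1) + 1 : ℤ) : EInt))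
      (j := ((p + q - p + 1 : ℤ) : EInt)) (i₃ := ((q + rk (p, q) - 1 : ℤ) : EInt))
      (by simp; have := hrk (p, q); lia) (by simp) (by simp; have := hrk (p, q); lia)
      (by simp; lia) (by simp; lia)
    exact ⟨Y.spectralSequencePageXIso _ (rk (p, q)) (hrk (p, q)) (p, q) _ _ _ _ (by simp) (by simp)
      (by simp) (by simp) (p + q - 1) (p + q) (p + q + 1) (by simp) ≪≫ l ≪≫
      mapSubquotIso (ee (p + q)).hom _⟩
  refine ⟨Y.E₂SpectralSequence, ⟨G, hG, rk, hst, fun pq => (hβ pq).some⟩, fun n => ?_, fun n => ?_,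
    fun p q h => isZero_page_of_neg Y 2 le_rfl _ h, fun p q => ?_⟩
  · refine ⟨⟨min 0 n, ?_⟩, n + 1, ?_⟩
    · show G n (min 0 n) = ⊤
      simp only [G]
      rw [step_eq_top Y n (by simp; lia), Subobject.map_top]
      exact Subobject.mk_eq_top_of_isIso _
    · show G n (n + 1) = ⊥
      simp only [G]
      rw [step_eq_bot Y n (by simp), Subobject.map_bot]
  · refine (Set.finite_Icc 0 n).subset fun p hp => ?_
    by_contra hp'
    exact hp (isZero_page_of_neg Y 2 le_rfl _ (by simp only [Set.mem_Icc] at hp'; simp; lia))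
  · exact ⟨Y.spectralSequenceFirstPageXIso _ (p, q) _ _ rfl rfl (p + q) rfl⟩

end Groth.Agent.GrothSS
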