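import Groth.Prelude.Def_ExtSupp
import Groth.Agent.SiteBase.ModHom
import Mathlib.CategoryTheory.Preadditive.Injective.Preserves
import Mathlib.CategoryTheory.Abelian.CommSq

/-! # Supports in the closed complement of an object of a ringed site -/

universe u

open CategoryTheory CategoryTheory.Limits MonoidalCategory Opposite

namespace Groth.Agent.GrothSS

open Groth.Agent.SiteBase

variable {C : Type u} [SmallCategory C] {J : GrothendieckTopology C} {O : Sheaf J CommRingCat.{u}}
variable (U : C)

lemma restr_eq_zero_iff_counit {X Y : ModSite.Mod O} (φ : X ⟶ Y) :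
    (ModSite.restr O U).map φ = 0 ↔ (ModSite.extZeroAdj O U).counit.app X ≫ φ = 0 := by
  haveI := extZero_additive O U
  have h : ((ModSite.extZeroAdj O U).homEquiv _ _).symm ((ModSite.restr O U).map φ) =
      (ModSite.extZeroAdj O U).counit.app X ≫ φ := by
    rw [Adjunction.homEquiv_counit]
    exact (ModSite.extZeroAdj O U).counit.naturality φ
  rw [← h]
  exact ⟨fun e => by rw [e]; simp [Adjunction.homEquiv_counit],
    fun e => ((ModSite.extZeroAdj O U).homEquiv _ _).symm.injective (e.trans (by simp [Adjunction.homEquiv_counit]))⟩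

lemma restr_eq_zero_iff_unit [ModSite.HasPushOver O U] {X Y : ModSite.Mod O} (φ : X ⟶ Y) :
    (ModSite.restr O U).map φ = 0 ↔ φ ≫ (ModSite.restrPushOverAdj O U).unit.app Y = 0 := by
  haveI : (ModSite.pushOver O U).Additive := (ModSite.restrPushOverAdj O U).right_adjoint_additive
  have h : (ModSite.restrPushOverAdj O U).homEquiv _ _ ((ModSite.restr O U).map φ) =
      φ ≫ (ModSite.restrPushOverAdj O U).unit.app Y := by
    rw [Adjunction.homEquiv_unit]
    exact ((ModSite.restrPushOverAdj O U).unit.naturality φ).symm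
  rw [← h]
  exact ⟨fun e => by rw [e]; simp [Adjunction.homEquiv_unit],
    fun e => ((ModSite.restrPushOverAdj O U).homEquiv _ _).injective (e.trans (by simp [Adjunction.homEquiv_unit]))⟩

section Support

variable {U} (X : ModSite.Mod O)

open scoped Classical in
variable (U) in
/-- sections allowed to be nonzero only over objects mapping to `U` -/
noncomputable def supSub (V : Cᵒᵖ) :
    Submodule ((O.obj ⋙ forget₂ CommRingCat.{u} RingCat.{u}).obj V) (((incl O).obj X).obj V) :=
  if Nonempty (V.unop ⟶ U) then ⊤ else ⊥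

lemma mem_supSub_of_hom {V : Cᵒᵖ} (g : V.unop ⟶ U) (s : ((incl O).obj X).obj V) : s ∈ supSub U X V := by
  rw [supSub, if_pos ⟨g⟩]; trivial

lemma mem_supSub_map {V W : Cᵒᵖ} (f : V ⟶ W) (s : ((incl O).obj X).obj V) (hs : s ∈ supSub U X V) :
    ((incl O).obj X).map f s ∈ supSub U X W := by
  by_cases h : Nonempty (W.unop ⟶ U)
  · exact mem_supSub_of_hom X h.some _
  · rw [supSub, if_neg fun ⟨g⟩ => h ⟨f.unop ≫ g⟩, Submodule.mem_bot] at hs
    rw [hs]
    exact (map_zero (((incl O).obj X).map f).hom).symm ▸ Submodule.zero_mem (supSub U X W)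

variable (U) in
/-- the presheaf of these sections -/
noncomputable def supP : PMod O where
  obj V := ModuleCat.of _ (supSub U X V)
  map {V W} f := ModuleCat.ofHom
    (Y := (ModuleCat.restrictScalars ((O.obj ⋙ forget₂ CommRingCat.{u} RingCat.{u}).map f).hom).obj
      (ModuleCat.of _ (supSub U X W)))
    { toFun := fun s => ⟨((incl O).obj X).map f s.1, mem_supSub_map X f s.1 s.2⟩
      map_add' := fun a b => Subtype.ext (map_add (((incl O).obj X).map f).hom a.1 b.1)
      map_smul' := fun r a => Subtype.ext (PresheafOfModules.map_smul _ f r a.1) }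
  map_id V := by
    ext s
    exact Subtype.ext (congrArg (fun t => (ModuleCat.Hom.hom t) s.1) (((incl O).obj X).map_id V) :)
  map_comp f g := by
    ext s
    exact Subtype.ext (congrArg (fun t => (ModuleCat.Hom.hom t) s.1) (((incl O).obj X).map_comp f g) :)

variable (U) in
/-- inclusion -/
noncomputable def supι : supP U X ⟶ (incl O).obj X where
  app V := ModuleCat.ofHom (supSub U X V).subtype
  naturality _ := rfl

/-- if the counit is an epimorphism, sections are locally zero or supported over `U` -/
lemma supp_mem_of_epi [Epi ((ModSite.extZeroAdj O U).counit.app X)] (V : C) (s : ModSite.sect X V) :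
    ∃ S ∈ J V, ∀ ⦃W : C⦄ (g : W ⟶ V), S g → Nonempty (W ⟶ U) ∨ X.val.map g.op s = 0 := by
  let j : (sh O).obj (supP U X) ⟶ X := ((shAdj O).homEquiv _ _).symm (supι U X)
  let η := (shAdj O).unit.app (supP U X)
  have hj : η ≫ (incl O).map j = supι U X :=
    ((shAdj O).homEquiv_unit _ _ _).symm.trans (Equiv.apply_symm_apply _ _)
  haveI : Epi j := ⟨fun {Z} a b hab => by
    have hr : (ModSite.restr O U).map a = (ModSite.restr O U).map b := by
      apply (SheafOfModules.toSheaf _).map_injective
      ext Y t
      have := congrArg (fun k : supP U X ⟶ (incl O).obj Z => (k.app (op Y.unop.left)).hom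
        ⟨t, mem_supSub_of_hom X (V := op Y.unop.left) Y.unop.hom t⟩)
        (show supι U X ≫ (incl O).map a = supι U X ≫ (incl O).map b by
          rw [← hj, Category.assoc, Category.assoc, ← Functor.map_comp, ← Functor.map_comp, hab])
      exact this
    rw [← cancel_epi ((ModSite.extZeroAdj O U).counit.app X)]
    exact ((ModSite.extZeroAdj O U).counit_naturality a).symm.trans
      ((congrArg (fun r => (ModSite.extZero O U).map r ≫ _) hr).trans
        ((ModSite.extZeroAdj O U).counit_naturality b))⟩
  haveI : PreservesColimitsOfSize.{u, u} (SheafOfModules.toSheaf.{u} (ModSite.ringSh O)) := inferInstance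
  haveI : Epi ((SheafOfModules.toSheaf.{u} (ModSite.ringSh O)).map j) := inferInstance
  haveI : Sheaf.IsLocallySurjective ((SheafOfModules.toSheaf.{u} (ModSite.ringSh O)).map j) :=
    (Sheaf.isLocallySurjective_iff_epi' (A := AddCommGrpCat.{u}) _).2 ‹_›
  haveI : Presheaf.IsLocallySurjective J ((PresheafOfModules.toPresheaf _).map ((incl O).map j)) :=
    ‹Sheaf.IsLocallySurjective _›
  have hs : Presheaf.IsLocallySurjective J ((PresheafOfModules.toPresheaf _).map (supι U X)) := by
    rw [← hj, Functor.map_comp]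
    infer_instance
  refine ⟨_, hs.imageSieve_mem (U := V) s, fun W g hg => ?_⟩
  obtain ⟨⟨t, ht⟩, e⟩ := hg
  refine or_iff_not_imp_left.2 fun h => ?_
  rw [supSub, if_neg h, Submodule.mem_bot] at ht
  subst ht
  exact e.symm

/-- a module null on `U` has no nonzero map to a module generated from `U` -/
theorem eq_zero_of_epi_counit {Q : ModSite.Mod O} (hQ : ModSite.IsNullOn O U Q)
    [Epi ((ModSite.extZeroAdj O U).counit.app X)] (f : Q ⟶ X) : f = 0 := by
  apply SheafOfModules.hom_ext
  refine PresheafOfModules.hom_ext fun V => ModuleCat.hom_ext (LinearMap.ext fun s => ?_)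
  obtain ⟨S, hS, h⟩ := supp_mem_of_epi (U := U) X V.unop (f.val.app V s)
  refine X.isSheaf.isSeparated V.unop _ hS (f.val.app V s) 0 fun W g hg => ?_
  obtain ⟨⟨k⟩⟩ | h0 := h g hg
  · refine (PresheafOfModules.naturality_apply f.val g.op s).symm.trans ?_
    rw [(ExtSupp.isNullOn_iff O U Q).1 hQ k (Q.val.map g.op s)]
    exact (map_zero _).trans (map_zero _).symm
  · exact h0.trans (map_zero _).symm

end Support

variable [ModSite.HasPushOver O U]

/-- the bijection `Hom(X/X_U, Y) = Hom(X, Γ_Z Y)` -/
noncomputable def quotSectEquiv (X Y : ModSite.Mod O) :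
    ((ModSite.quotOn O U).obj X ⟶ Y) ≃ (X ⟶ (ModSite.sectOn O U).obj Y) where
  toFun a := kernel.lift _ (cokernel.π ((ModSite.extZeroAdj O U).counit.app X) ≫ a)
    ((restr_eq_zero_iff_unit U _).1 ((restr_eq_zero_iff_counit U _).2
      ((Category.assoc _ _ _).symm.trans ((congrArg (· ≫ a) (cokernel.condition _)).trans zero_comp))))
  invFun b := cokernel.desc _ (b ≫ kernel.ι ((ModSite.restrPushOverAdj O U).unit.app Y))
    ((restr_eq_zero_iff_counit U _).1 ((restr_eq_zero_iff_unit U _).2
      ((Category.assoc _ _ _).trans ((congrArg (b ≫ ·) (kernel.condition _)).trans comp_zero))))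
  left_inv a := coequalizer.hom_ext ((cokernel.π_desc _ _ _).trans (kernel.lift_ι _ _ _))
  right_inv b := equalizer.hom_ext ((kernel.lift_ι _ _ _).trans (cokernel.π_desc _ _ _))

lemma quotSectEquiv_ι {X Y : ModSite.Mod O} (a : (ModSite.quotOn O U).obj X ⟶ Y) :
    quotSectEquiv U X Y a ≫ kernel.ι ((ModSite.restrPushOverAdj O U).unit.app Y) =
      cokernel.π ((ModSite.extZeroAdj O U).counit.app X) ≫ a := kernel.lift_ι _ _ _

/-- `quotOn ⊣ sectOn` -/
noncomputable def quotSectAdj : ModSite.quotOn O U ⊣ ModSite.sectOn O U :=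
  Adjunction.mkOfHomEquiv
    { homEquiv := quotSectEquiv U
      homEquiv_naturality_left_symm := fun {X' X Y} f g => by
        obtain ⟨a, rfl⟩ := (quotSectEquiv U X Y).surjective g
        rw [Equiv.symm_apply_apply]
        apply (quotSectEquiv U X' Y).injective
        rw [Equiv.apply_symm_apply]
        apply equalizer.hom_ext
        refine (Category.assoc _ _ _).trans ((congrArg (f ≫ ·) (quotSectEquiv_ι U a)).trans
          (Eq.trans ?_ (quotSectEquiv_ι U _).symm))
        exact ((Category.assoc _ _ _).symm.trans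
          ((congrArg (· ≫ a) (cokernel.π_desc _ _ _).symm).trans (Category.assoc _ _ _)))
      homEquiv_naturality_right := fun {X Y Y'} a g => by
        apply equalizer.hom_ext
        refine (quotSectEquiv_ι U _).trans (Eq.trans ?_ (Category.assoc _ _ _).symm)
        refine Eq.trans ?_ (congrArg (quotSectEquiv U X Y a ≫ ·) (kernel.lift_ι _ _ _).symm)
        exact ((Category.assoc _ _ _).symm.trans
          ((congrArg (· ≫ g) (quotSectEquiv_ι U a).symm).trans (Category.assoc _ _ _))) }

instance quotOn_additive : (ModSite.quotOn O U).Additive := (quotSectAdj U).left_adjoint_additive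

instance sectOn_preservesFiniteLimits : PreservesFiniteLimits (ModSite.sectOn O U) :=
  haveI : PreservesLimitsOfSize.{0, 0} (ModSite.sectOn O U) := (quotSectAdj U).rightAdjoint_preservesLimits
  PreservesLimitsOfSize.preservesFiniteLimits.{0, 0} _

/-- passing to the closed complement is exact: it preserves monomorphisms -/
instance quotOn_preservesMono : (ModSite.quotOn O U).PreservesMonomorphisms where
  preserves {A B} f _ := by
    haveI := extZero_additive O U
    apply Preadditive.mono_of_kernel_zero
    let εB : (ModSite.extZero O U).obj ((ModSite.restr O U).obj B) ⟶ B := (ModSite.extZeroAdj O U).counit.app B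
    let qA : A ⟶ (ModSite.quotOn O U).obj A := cokernel.π ((ModSite.extZeroAdj O U).counit.app A)
    let k := kernel.ι ((ModSite.quotOn O U).map f)
    -- lift the kernel to `A`, and pass to the image of the counit in `B`
    let a := pullback.snd k qA
    let p := pullback.fst k qA
    have hm : qA ≫ (ModSite.quotOn O U).map f = f ≫ cokernel.π εB := cokernel.π_desc _ _ _
    have hz : (a ≫ f) ≫ cokernel.π εB = 0 := by
      refine (Category.assoc _ _ _).trans ((congrArg (a ≫ ·) hm.symm).trans ?_)
      refine (Category.assoc _ _ _).symm.trans ((congrArg (· ≫ (ModSite.quotOn O U).map f) pullback.condition.symm).trans ?_)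
      exact (Category.assoc _ _ _).trans ((congrArg (p ≫ ·) (kernel.condition _)).trans comp_zero)
    let m : pullback k qA ⟶ Abelian.image εB := kernel.lift _ (a ≫ f) hz
    haveI : Mono m := mono_of_mono_fac (kernel.lift_ι _ _ _ : m ≫ Abelian.image.ι εB = a ≫ f)
    haveI : Epi ((ModSite.extZeroAdj O U).counit.app (Abelian.image εB)) := by
      have h : (ModSite.extZero O U).map ((ModSite.extZeroAdj O U).homEquiv _ _ (Abelian.factorThruImage εB)) ≫
          (ModSite.extZeroAdj O U).counit.app _ = Abelian.factorThruImage εB := by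
        exact ((ModSite.extZeroAdj O U).homEquiv_counit _ _ _).symm.trans (Equiv.symm_apply_apply _ _)
      exact epi_of_epi_fac h
    haveI : Epi qA := inferInstanceAs (Epi (cokernel.π _))
    haveI : Epi p := Abelian.epi_pullback_of_epi_g k qA
    haveI : Mono (pushout.inr m p) := Abelian.mono_pushout_of_mono_f m p
    haveI : Epi (pushout.inl m p) := pushout.inl_of_epi
    haveI : Epi ((ModSite.extZeroAdj O U).counit.app (Abelian.image εB) ≫ pushout.inl m p) := epi_comp' ‹_› ‹_›
    haveI : Epi ((ModSite.extZeroAdj O U).counit.app (pushout m p)) :=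
      epi_of_epi_fac ((ModSite.extZeroAdj O U).counit_naturality (pushout.inl m p))
    have hnull : ModSite.IsNullOn O U (kernel ((ModSite.quotOn O U).map f)) :=
      (ExtSupp.isNullOn_iff O U _).2 fun V g x => by
        have hA := (ExtSupp.isNullOn_iff O U _).1 (ExtSupp.isNullOn_quotOn O U A) g (k.val.app (op V) x)
        haveI : Mono k := inferInstanceAs (Mono (kernel.ι _))
        haveI : Mono ((SheafOfModules.evaluation.{u} (ModSite.ringSh O) (op V)).map k) := inferInstance
        exact (ModuleCat.mono_iff_injective ((SheafOfModules.evaluation.{u} (ModSite.ringSh O) (op V)).map k)).1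
          inferInstance (hA.trans (map_zero _).symm)
    haveI : Mono k := inferInstanceAs (Mono (kernel.ι _))

    have h0 := eq_zero_of_epi_counit (pushout m p) hnull (pushout.inr m p)
    have hK : IsZero (kernel ((ModSite.quotOn O U).map f)) :=
      IsZero.of_mono_eq_zero (pushout.inr m p) h0
    exact hK.eq_of_src _ _

instance sectOn_preservesInjectives : (ModSite.sectOn O U).PreservesInjectiveObjects :=
  Functor.preservesInjectiveObjects_of_adjunction_of_preservesMonomorphisms (quotSectAdj U)

omit [ModSite.HasPushOver O U] in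
lemma eq_zero_to_null {W G : ModSite.Mod O} {P : ModSite.Mod (O.over U)} (hW : ModSite.IsNullOn O U W)
    (e : G ≅ (ModSite.extZero O U).obj P) (f : G ⟶ W) : f = 0 := by
  haveI := extZero_additive O U
  rw [← cancel_epi e.inv, comp_zero]
  exact ((ModSite.extZeroAdj O U).homEquiv _ _).injective (hW.eq_of_tgt _ _)

omit [ModSite.HasPushOver O U] in
lemma isNullOn_tensor_left {X : ModSite.Mod O} (h : ModSite.IsNullOn O U X) (M : ModSite.Mod O) :
    ModSite.IsNullOn O U (((ModSite.tensorBi O).flip.obj M).obj X) :=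
  (Functor.map_isZero ((ModSite.tensorBi (O.over U)).flip.obj ((ModSite.restr O U).obj M)) h).of_iso
    (restrTensorIso O U X M)

omit [ModSite.HasPushOver O U] in
lemma isNullOn_tensor_right {M : ModSite.Mod O} (h : ModSite.IsNullOn O U M) (X : ModSite.Mod O) :
    ModSite.IsNullOn O U (((ModSite.tensorBi O).obj X).obj M) :=
  (Functor.map_isZero ((ModSite.tensorBi (O.over U)).obj ((ModSite.restr O U).obj X)) h).of_iso
    (restrTensorIso O U X M)

omit [ModSite.HasPushOver O U] in
/-- descent through the image of a cokernel under a right exact functor -/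
lemma exists_desc_map (F : ModSite.Mod O ⥤ ModSite.Mod O) [F.Additive] [PreservesFiniteColimits F]
    {A B T : ModSite.Mod O} (i : A ⟶ B) (g : F.obj B ⟶ T) (hg : F.map i ≫ g = 0) :
    ∃ a, F.map (cokernel.π i) ≫ a = g :=
  ⟨(CokernelCofork.mapIsColimit _ (cokernelIsCokernel i) F).desc (CokernelCofork.ofπ g hg),
    (CokernelCofork.mapIsColimit _ (cokernelIsCokernel i) F).fac _ WalkingParallelPair.one⟩

/-- `π_X ⊗ M` -/
noncomputable abbrev qL (M X : ModSite.Mod O) :
    ((ModSite.tensorBi O).flip.obj M).obj X ⟶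
      ((ModSite.tensorBi O).flip.obj M).obj ((ModSite.quotOn O U).obj X) :=
  ((ModSite.tensorBi O).flip.obj M).map (cokernel.π ((ModSite.extZeroAdj O U).counit.app X))

/-- `X ⊗ π_M` -/
noncomputable abbrev qR (M X : ModSite.Mod O) :
    ((ModSite.tensorBi O).flip.obj M).obj X ⟶
      ((ModSite.tensorBi O).flip.obj ((ModSite.quotOn O U).obj M)).obj X :=
  ((ModSite.tensorBi O).obj X).map (cokernel.π ((ModSite.extZeroAdj O U).counit.app M))

lemma qR_kills (M X : ModSite.Mod O) :
    ((ModSite.tensorBi O).flip.obj M).map ((ModSite.extZeroAdj O U).counit.app X) ≫ qR U M X = 0 :=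
  eq_zero_to_null U (W := ((ModSite.tensorBi O).flip.obj ((ModSite.quotOn O U).obj M)).obj X)
    (isNullOn_tensor_right U (ExtSupp.isNullOn_quotOn O U M) X)
    ((extZeroTensorIso (U := U) M).app ((ModSite.restr O U).obj X)).symm _

lemma qL_kills (M X : ModSite.Mod O) :
    ((ModSite.tensorBi O).obj X).map ((ModSite.extZeroAdj O U).counit.app M) ≫ qL U M X = 0 :=
  eq_zero_to_null U (W := ((ModSite.tensorBi O).flip.obj M).obj ((ModSite.quotOn O U).obj X))
    (isNullOn_tensor_left U (ExtSupp.isNullOn_quotOn O U X) M)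
    (P := ((ModSite.tensorBi (O.over U)).flip.obj ((ModSite.restr O U).obj X)).obj ((ModSite.restr O U).obj M))
    (Iso.trans (Y := ((ModSite.tensorBi O).flip.obj X).obj ((ModSite.extZero O U).obj ((ModSite.restr O U).obj M)))
      ((braidIso X).app ((ModSite.extZero O U).obj ((ModSite.restr O U).obj M)))
      ((extZeroTensorIso (U := U) X).app ((ModSite.restr O U).obj M)).symm) _

lemma exists_tensorQuot (M X : ModSite.Mod O) :
    ∃ φ : ((ModSite.tensorBi O).flip.obj M).obj ((ModSite.quotOn O U).obj X) ⟶
      ((ModSite.tensorBi O).flip.obj ((ModSite.quotOn O U).obj M)).obj X, IsIso φ ∧ qL U M X ≫ φ = qR U M X := by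
  obtain ⟨a, ha⟩ := exists_desc_map ((ModSite.tensorBi O).flip.obj M)
    ((ModSite.extZeroAdj O U).counit.app X) (qR U M X) (qR_kills U M X)
  obtain ⟨b, hb⟩ := exists_desc_map ((ModSite.tensorBi O).obj X)
    ((ModSite.extZeroAdj O U).counit.app M) (qL U M X) (qL_kills U M X)
  haveI : Epi (qL U M X) := Functor.map_epi _ (cokernel.π ((ModSite.extZeroAdj O U).counit.app X))
  haveI : Epi (qR U M X) := Functor.map_epi _ (cokernel.π ((ModSite.extZeroAdj O U).counit.app M))
  exact ⟨a, ⟨b, (cancel_epi (qL U M X)).1 ((Category.assoc _ _ _).symm.trans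
      ((congrArg (· ≫ b) ha).trans (hb.trans (Category.comp_id _).symm))),
    (cancel_epi (qR U M X)).1 ((Category.assoc _ _ _).symm.trans
      ((congrArg (· ≫ a) hb).trans (ha.trans (Category.comp_id _).symm)))⟩, ha⟩

/-- the comparison `(X/X_U) ⊗ M ≅ X ⊗ (M/M_U)` -/
noncomputable def tensorQuotIso (M X : ModSite.Mod O) :
    ((ModSite.tensorBi O).flip.obj M).obj ((ModSite.quotOn O U).obj X) ≅
      ((ModSite.tensorBi O).flip.obj ((ModSite.quotOn O U).obj M)).obj X :=
  @asIso _ _ _ _ (exists_tensorQuot U M X).choose (exists_tensorQuot U M X).choose_spec.1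

lemma tensorQuotIso_fac (M X : ModSite.Mod O) : qL U M X ≫ (tensorQuotIso U M X).hom = qR U M X :=
  (exists_tensorQuot U M X).choose_spec.2

/-- `(X/X_U) ⊗ M ≅ X ⊗ (M/M_U)`, natural in `X` -/
noncomputable def tensorQuotNatIso (M : ModSite.Mod O) :
    ModSite.quotOn O U ⋙ (ModSite.tensorBi O).flip.obj M ≅
      (ModSite.tensorBi O).flip.obj ((ModSite.quotOn O U).obj M) :=
  NatIso.ofComponents (fun X => tensorQuotIso U M X) fun {X Y} f => by
    haveI : Epi (qL U M X) := Functor.map_epi _ (cokernel.π ((ModSite.extZeroAdj O U).counit.app X))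
    rw [← cancel_epi (qL U M X)]
    have hq : cokernel.π ((ModSite.extZeroAdj O U).counit.app X) ≫ (ModSite.quotOn O U).map f =
        f ≫ cokernel.π ((ModSite.extZeroAdj O U).counit.app Y) := cokernel.π_desc _ _ _
    have h1 : qL U M X ≫ ((ModSite.tensorBi O).flip.obj M).map ((ModSite.quotOn O U).map f) =
        ((ModSite.tensorBi O).flip.obj M).map f ≫ qL U M Y :=
      (Functor.map_comp _ _ _).symm.trans ((congrArg _ hq).trans (Functor.map_comp _ _ _))
    have h2 : ((ModSite.tensorBi O).flip.obj M).map f ≫ qR U M Y =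
        qR U M X ≫ ((ModSite.tensorBi O).flip.obj ((ModSite.quotOn O U).obj M)).map f :=
      (((ModSite.tensorBi O).map f).naturality _).symm
    calc qL U M X ≫ ((ModSite.tensorBi O).flip.obj M).map ((ModSite.quotOn O U).map f) ≫ (tensorQuotIso U M Y).hom
        = (((ModSite.tensorBi O).flip.obj M).map f ≫ qL U M Y) ≫ (tensorQuotIso U M Y).hom :=
          (Category.assoc _ _ _).symm.trans (congrArg (· ≫ _) h1)
      _ = ((ModSite.tensorBi O).flip.obj M).map f ≫ qR U M Y :=
          (Category.assoc _ _ _).trans (congrArg (_ ≫ ·) (tensorQuotIso_fac U M Y))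
      _ = qR U M X ≫ _ := h2
      _ = qL U M X ≫ (tensorQuotIso U M X).hom ≫ _ :=
          (congrArg (· ≫ _) (tensorQuotIso_fac U M X)).symm.trans (Category.assoc _ _ _)

/-- `ℋom(M/M_U, -) ≅ Γ_Z ℋom(M, -)` -/
noncomputable def sheafHomQuotIso (M : ModSite.Mod O) [ModSite.HasSheafHom M]
    [ModSite.HasSheafHom ((ModSite.quotOn O U).obj M)] :
    ModSite.sheafHom ((ModSite.quotOn O U).obj M) ≅ ModSite.sheafHom M ⋙ ModSite.sectOn O U :=
  (ModSite.sheafHomAdj ((ModSite.quotOn O U).obj M)).rightAdjointUniq
    (((quotSectAdj U).comp (ModSite.sheafHomAdj M)).ofNatIsoLeft (tensorQuotNatIso U M))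

/-- `O_Z ⊗ M ≅ M/M_U` -/
noncomputable def quotUnitTensorIso (M : ModSite.Mod O) :
    ((ModSite.tensorBi O).flip.obj M).obj ((ModSite.quotOn O U).obj (ModSite.unit O)) ≅
      (ModSite.quotOn O U).obj M :=
  (tensorQuotIso U M (ModSite.unit O)) ≪≫ unitTensorIso _

end Groth.Agent.GrothSS
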