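import Groth.Agent.GrothSS.SuppInputs
import Groth.Agent.QCohBase.Derived
import Groth.Agent.CohAcyc.Sections

/-! # Totally acyclic modules have no higher local cohomology sheaves -/

set_option autoImplicit false
set_option linter.all false
set_option backward.isDefEq.respectTransparency false
set_option backward.defeqAttrib.useBackward true

noncomputable section

universe u

open CategoryTheory CategoryTheory.Limits CategoryTheory.Abelian Opposite

namespace Groth.Agent.GrothSS

open Groth.Agent.CohAcyc Groth.Agent.SiteBase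

variable {C : Type u} [SmallCategory C] {J : GrothendieckTopology C} {O : Sheaf J CommRingCat.{u}} (U : C)

/-- the section vanishes wherever `U` is reached -/
def Killed {V : C} (F : Ab J) (s : F.obj.obj (op V)) : Prop :=
  ∀ ⦃W : C⦄ (g : W ⟶ V), (W ⟶ U) → F.obj.map g.op s = 0

/-- the objects over `V` reaching `U` -/
abbrev Idx (V : C) : Type u := Σ W : C, (W ⟶ V) × (W ⟶ U)

/-- the covering map of the part of `V` over `U` -/
def aMap (J : GrothendieckTopology C) (V : C) : (∐ fun k : Idx U V => yonSh J k.1) ⟶ yonSh J V :=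
  Sigma.desc fun k => (presheafToSheaf J (Type u)).map (yoneda.map k.2.1)

lemma secEquiv_naturality' {V W : C} (g : W ⟶ V) (F : Ab J) (φ : (zF J).obj (yonSh J V) ⟶ F) :
    secEquiv W F ((zF J).map ((presheafToSheaf J (Type u)).map (yoneda.map g)) ≫ φ) =
      F.obj.map g.op (secEquiv V F φ) := by
  simp only [secEquiv, Equiv.trans_apply]
  rw [Adjunction.homEquiv_naturality_left, Adjunction.homEquiv_naturality_left]
  exact (yonedaEquiv_naturality _ g).symm

lemma secEquiv_zero (W : C) (F : Ab J) : secEquiv W F 0 = 0 := by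
  have := secEquiv_comp W (0 : (zF J).obj (yonSh J W) ⟶ F) (0 : F ⟶ F)
  rw [comp_zero] at this
  exact this

lemma aMap_comp_eq_zero_iff {V : C} {F : Ab J} (φ : (zF J).obj (yonSh J V) ⟶ F) :
    (zF J).map (aMap U J V) ≫ φ = 0 ↔ Killed U F (secEquiv V F φ) := by
  constructor
  · intro h W g k
    rw [← secEquiv_naturality', ← secEquiv_zero W F]
    refine congrArg (secEquiv W F) ?_
    have := congrArg (fun ψ => (zF J).map (Sigma.ι (fun k : Idx U V => yonSh J k.1) ⟨W, g, k⟩) ≫ ψ) h
    simp only [comp_zero, ← Category.assoc, ← Functor.map_comp, aMap, Sigma.ι_desc] at this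
    exact this
  · intro h
    haveI : (zF J).IsLeftAdjoint := ⟨_, ⟨zAdj J⟩⟩
    refine Cofan.IsColimit.hom_ext (isColimitCofanMkObjOfIsColimit (zF J) _ _
      (coproductIsCoproduct (fun k : Idx U V => yonSh J k.1))) _ _ fun k => ?_
    show (zF J).map (Sigma.ι (fun k : Idx U V => yonSh J k.1) k) ≫ (zF J).map (aMap U J V) ≫ φ = _ ≫ 0
    rw [← Category.assoc, ← Functor.map_comp, comp_zero, aMap, Sigma.ι_desc]
    apply (secEquiv k.1 F).injective
    rw [secEquiv_naturality', secEquiv_zero]
    exact h k.2.1 k.2.2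

/-- killed sections lift along a quotient by a totally acyclic sheaf -/
theorem exists_killed_lift {S : ShortComplex (Ab J)} (hS : S.ShortExact)
    (h : CohCx.IsTotallyAcyclic S.X₁) {V : C} (s : S.X₃.obj.obj (op V)) (hs : Killed U S.X₃ s) :
    ∃ t : S.X₂.obj.obj (op V), Killed U S.X₂ t ∧ S.g.hom.app (op V) t = s := by
  let φ := (secEquiv V S.X₃).symm s
  have hφ : (zF J).map (aMap U J V) ≫ φ = 0 := (aMap_comp_eq_zero_iff U φ).2 (by
    rw [Equiv.apply_symm_apply]; exact hs)
  obtain ⟨b, hb⟩ := lift_of_subsingleton hS (subsingleton_ext_coker h (aMap U J V) 0)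
    (cokernel.desc _ φ hφ)
  refine ⟨secEquiv V S.X₂ (cokernel.π _ ≫ b), (aMap_comp_eq_zero_iff U _).1
    ((Category.assoc _ _ _).symm.trans ((congrArg (· ≫ b) (cokernel.condition _)).trans zero_comp)), ?_⟩
  rw [← secEquiv_comp, Category.assoc, hb, cokernel.π_desc, Equiv.apply_symm_apply]

section Sect

variable [ModSite.HasPushOver O U]

lemma ι_app_eq_zero (F : ModSite.Mod O) {W : C} (k : W ⟶ U) (x : ModSite.sect ((ModSite.sectOn O U).obj F) W) :
    ((ModSite.sectOnι O U).app F).val.app (op W) x = 0 := by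
  have h : (ModSite.restr O U).map ((ModSite.sectOnι O U).app F) = 0 :=
    (restr_eq_zero_iff_unit U _).2 (kernel.condition _)
  exact congrArg (fun ψ : (ModSite.restr O U).obj ((ModSite.sectOn O U).obj F) ⟶ (ModSite.restr O U).obj F =>
    (ψ.val.app (op (Over.mk k))).hom x) h

lemma killed_ι (F : ModSite.Mod O) {V : C} (x : ModSite.sect ((ModSite.sectOn O U).obj F) V) :
    Killed U (ModSite.toAb F) (V := V) (((ModSite.sectOnι O U).app F).val.app (op V) x) := fun W g k =>
  (PresheafOfModules.naturality_apply ((ModSite.sectOnι O U).app F).val g.op x).symm.trans (ι_app_eq_zero U F k _)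

lemma exists_of_killed (F : ModSite.Mod O) {V : C} (t : ModSite.sect F V) (ht : Killed U (ModSite.toAb F) t) :
    ∃ x : ModSite.sect ((ModSite.sectOn O U).obj F) V, ((ModSite.sectOnι O U).app F).val.app (op V) x = t := by
  let P : PMod O := (PresheafOfModules.free.{u} _).obj (yoneda.obj V)
  let φ : P ⟶ (incl O).obj F :=
    ((PresheafOfModules.freeAdjunction _).homEquiv (yoneda.obj V) ((incl O).obj F)).symm (yonedaEquiv.symm t)
  have hφg : ∀ (W : C) (g : W ⟶ V), (φ.app (op W)).hom (ModuleCat.freeMk g) = F.val.map g.op t := fun W g => by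
    have h := congrArg (fun ψ : yoneda.obj V ⟶ _ => ψ.app (op W) g)
      (((PresheafOfModules.freeAdjunction _).homEquiv (yoneda.obj V) ((incl O).obj F)).apply_symm_apply
        (yonedaEquiv.symm t))
    exact h
  let η := (shAdj O).unit.app P
  let f : (sh O).obj P ⟶ F := ((shAdj O).homEquiv _ _).symm φ
  have hη : η ≫ (incl O).map f = φ := ((shAdj O).homEquiv_unit _ _ _).symm.trans (Equiv.apply_symm_apply _ _)
  haveI : Presheaf.IsLocallySurjective J ((PresheafOfModules.toPresheaf _).map η) := by
    show Presheaf.IsLocallySurjective J (toSheafify J _)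
    infer_instance
  have hf : (ModSite.restr O U).map f = 0 := by
    apply (SheafOfModules.toSheaf _).map_injective
    ext Y x
    refine F.isSheaf.isSeparated Y.unop.left _
      (Presheaf.imageSieve_mem J ((PresheafOfModules.toPresheaf _).map η) (U := op Y.unop.left) x) _ _ fun W g hg => ?_
    obtain ⟨y, hy⟩ := hg
    refine (PresheafOfModules.naturality_apply f.val g.op x).symm.trans (Eq.trans ?_ (map_zero _).symm)
    refine (congrArg (f.val.app (op W)) hy.symm).trans ?_
    show (η ≫ (incl O).map f).app (op W) y = 0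
    rw [hη]
    have : (φ.app (op W)).hom = 0 := by
      refine congrArg ModuleCat.Hom.hom (ModuleCat.free_hom_ext fun g' => ?_ : φ.app (op W) = 0)
      exact (hφg W g').trans (ht g' (g ≫ Y.unop.hom))
    exact congrArg (fun l => l y) this
  let b := kernel.lift _ f ((restr_eq_zero_iff_unit U f).1 hf)
  refine ⟨b.val.app (op V) ((η.app (op V)).hom (ModuleCat.freeMk (𝟙 V))), ?_⟩
  have hb : b ≫ (ModSite.sectOnι O U).app F = f := kernel.lift_ι _ _ _
  show (b ≫ (ModSite.sectOnι O U).app F).val.app (op V) _ = t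
  rw [hb]
  show (η ≫ (incl O).map f).app (op V) _ = t
  rw [hη]
  exact (hφg V (𝟙 V)).trans (congrArg (fun m => m t) (congrArg ConcreteCategory.hom (F.val.map_id (op V))) :)

theorem epi_sectOn_map {T : ShortComplex (ModSite.Mod O)} (hT : T.ShortExact)
    (h : CohCx.IsTotallyAcyclic (ModSite.toAb T.X₁)) : Epi ((ModSite.sectOn O U).map T.g) := by
  let Φ := SheafOfModules.toSheaf.{u} (ModSite.ringSh O)
  haveI : PreservesColimitsOfSize.{u, u} Φ := inferInstance
  haveI : PreservesFiniteColimits Φ := PreservesColimitsOfSize.preservesFiniteColimits.{u, u} _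
  haveI : PreservesFiniteLimits Φ := inferInstance
  have hS : (T.map Φ).ShortExact := hT.map_of_exact Φ
  refine Φ.epi_of_epi_map (epi_of_surjective _ fun V s => ?_)
  obtain ⟨t, ht, hts⟩ := exists_killed_lift U hS h _ (killed_ι U T.X₃ (V := V) s)
  obtain ⟨x, hx⟩ := exists_of_killed U T.X₂ t ht
  refine ⟨x, ?_⟩
  haveI : Mono (Φ.map ((ModSite.sectOnι O U).app T.X₃)) :=
    haveI : Mono ((ModSite.sectOnι O U).app T.X₃) := inferInstanceAs (Mono (kernel.ι _))
    inferInstance
  haveI : Mono ((Φ.map ((ModSite.sectOnι O U).app T.X₃)).hom) :=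
    inferInstanceAs (Mono ((sheafToPresheaf J AddCommGrpCat.{u}).map (Φ.map ((ModSite.sectOnι O U).app T.X₃))))
  refine (AddCommGrpCat.mono_iff_injective ((Φ.map ((ModSite.sectOnι O U).app T.X₃)).hom.app (op V))).1 inferInstance ?_
  refine Eq.trans ?_ hts
  refine Eq.trans ?_ (congrArg (T.g.val.app (op V)) hx)
  exact congrArg (fun ψ : (ModSite.sectOn O U).obj T.X₂ ⟶ T.X₃ => ψ.val.app (op V) x)
    ((ModSite.sectOnι O U).naturality T.g)

theorem isZero_HZsh_of_isTotallyAcyclic [HasInjectiveResolutions (ModSite.Mod O)] (M : ModSite.Mod O)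
    (hM : CohCx.IsTotallyAcyclic (ModSite.toAb M)) (q : ℕ) :
    IsZero ((ModSite.HZsh O U (q + 1)).obj M) := by
  let Φ := SheafOfModules.toSheaf.{u} (ModSite.ringSh O)
  haveI : PreservesColimitsOfSize.{u, u} Φ := inferInstance
  haveI : PreservesFiniteColimits Φ := PreservesColimitsOfSize.preservesFiniteColimits.{u, u} _
  haveI : PreservesFiniteLimits Φ := inferInstance
  haveI : PreservesLimitsOfSize.{0, 0} (ModSite.sectOn O U) := (quotSectAdj U).rightAdjoint_preservesLimits
  haveI : PreservesFiniteLimits (ModSite.sectOn O U) := PreservesLimitsOfSize.preservesFiniteLimits.{0, 0} _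
  refine QCohBase.isZero_rightDerived_obj_of_class (ModSite.sectOn O U)
    (fun N => CohCx.IsTotallyAcyclic (ModSite.toAb N))
    (fun e h k p => subsingleton_of_iso (Iso.refl _) (Φ.mapIso e) (h k p))
    (fun {T} hT h₁ h₂ k p => ?_) (fun {T} hT h₁ => epi_sectOn_map U hT h₁) hM q
  haveI := h₂
  exact subsingleton_quot_of_ses (hT.map_of_exact Φ) (CohAcyc.isTotallyAcyclic_injective T.X₂ k p) (h₁ k (p + 1))

end Sect

end Groth.Agent.GrothSS
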